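import Cfsg.Agent.SuzThree.Main

/-!
The centraliser of a subgroup of order three of this kind.
-/

set_option autoImplicit false
set_option linter.all false
set_option maxRecDepth 100000
set_option maxHeartbeats 1000000

open Cfsg Cfsg.Agent.ThreeTrans.OrthCohom Cfsg.Agent.Classical.Quad QuadraticMap Cfsg.Agent.LargeExtra

namespace Cfsg.Agent.SuzThree

open Cfsg.Agent.SuzType
open scoped commutatorElement

variable {G : Type*} [Group G] [Finite G] {z : G}

theorem transfer {S : Suz z} {y : G} (h : Std3 S y) (C P : Subgroup G) (hC : C = Cy y)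
    (hP : P = Subgroup.zpowers y) [(P.subgroupOf C).Normal] (K : Type) [Field K] [Fintype K]
    (hK : Fintype.card K = 9) :
    Cfsg.IsQuasisimple ↥C ∧ Nonempty (↥C ⧸ P.subgroupOf C ≃* Cfsg.PSU 4 K 3) ∧
      C.relIndex (Subgroup.normalizer (P : Set G)) = 2 := by
  subst hC hP
  exact ⟨quasisimple h, iso_M h K hK, norm_index h⟩

theorem of_suz_type (z : G) (hz : orderOf z = 2) (Q : Subgroup (Subgroup.centralizer ({z} : Set G))) [Q.Normal]
    (hF : generalizedFittingSubgroup (Subgroup.centralizer ({z} : Set G)) = Q) (hQ : IsExtraspecial 2 Q)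
    (hcard : Nat.card Q = 2 ^ 7)
    (e : (Subgroup.centralizer ({z} : Set G)) ⧸ Q ≃* Omega (ZMod 2) (quadFormMinus 2 (ZMod 2) 1 1))
    (hnwc : ∃ g : G, (∃ hq : g * z * g⁻¹ ∈ Subgroup.centralizer ({z} : Set G),
      (⟨g * z * g⁻¹, hq⟩ : Subgroup.centralizer ({z} : Set G)) ∈ Q) ∧ g * z * g⁻¹ ≠ z)
    (Y : Subgroup (Subgroup.centralizer ({z} : Set G))) (hY : Nat.card Y = 3)
    (hQY : Nat.card ↥⁅Q, Y⁆ = 8) (hQYna : ¬ IsMulCommutative ↥⁅Q, Y⁆) :
    ∃ (S : Suz z) (y : G), Std3 S y ∧ Y.map (Subgroup.subtype _) = Subgroup.zpowers y := by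
  classical
  haveI : Fact (Nat.Prime 2) := ⟨Nat.prime_two⟩
  haveI : Fact (Nat.Prime 3) := ⟨Nat.prime_three⟩
  obtain ⟨S⟩ := exists_suz z hz Q hF hQ hcard e hnwc
  have hO : pCore 2 ↥(Cz z) = Q := by
    refine le_antisymm ?_ ?_
    · rw [← hF]
      exact (Core.pCore_le_fittingSubgroup 2).trans le_sup_right
    · exact Core.le_pCore (IsPGroup.of_card hcard)
  have hoc : oc z = Q.map (Cz z).subtype := by rw [oc, hO]
  haveI : Nontrivial Y := Finite.one_lt_card_iff_nontrivial.1 (by rw [hY]; norm_num)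
  obtain ⟨g, hg⟩ := exists_ne (1 : Y)
  have og : orderOf ((g : ↥(Cz z)) : G) = 3 := by
    rw [Subgroup.orderOf_coe, Subgroup.orderOf_coe]
    have hd : orderOf g ∣ 3 := hY ▸ orderOf_dvd_natCard g
    exact ((Nat.dvd_prime Nat.prime_three).1 hd).resolve_left fun e => hg (orderOf_eq_one_iff.1 e)
  have hYz : Y.map (Subgroup.subtype _) = Subgroup.zpowers ((g : ↥(Cz z)) : G) := by
    refine (Subgroup.eq_of_le_of_card_ge (Subgroup.zpowers_le.2 (Subgroup.mem_map_of_mem _ g.2 : ((g : ↥(Cz z)) : G) ∈ Y.map (Subgroup.subtype _))) ?_).symm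
    rw [Nat.card_zpowers, Subgroup.coe_subtype, og, ← Nat.card_congr (Y.equivMapOfInjective _ (Cz z).subtype_injective).toEquiv, hY]
  obtain ⟨y, hy⟩ : ∃ y, y = ((g : ↥(Cz z)) : G) := ⟨_, rfl⟩
  rw [← hy] at og hYz
  have yz : y * z = z * y := hy ▸ Subgroup.mem_centralizer_singleton_iff.1 (g : ↥(Cz z)).2
  have y3 : y ^ 3 = 1 := og ▸ pow_orderOf_eq_one y
  have y1 : y ≠ 1 := fun e => by rw [e, orderOf_one] at og; norm_num at og
  let W : Subgroup G := (⁅Q, Y⁆).map (Cz z).subtype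
  have hle : ⁅Q, Y⁆ ≤ Q := Subgroup.commutator_le_left Q Y
  have hW : W ≤ oc z := by rw [hoc]; exact Subgroup.map_mono hle
  have hWz : z ∈ W := by
    obtain ⟨a, b, hab⟩ : ∃ a b : ↥⁅Q, Y⁆, a * b ≠ b * a := by
      by_contra hc
      push Not at hc
      exact hQYna ⟨⟨hc⟩⟩
    have ha : ((a : ↥(Cz z)) : G) ∈ W := ⟨a, a.2, rfl⟩
    have hb : ((b : ↥(Cz z)) : G) ∈ W := ⟨b, b.2, rfl⟩
    have hc := S.commutator_eq (hW ha) (hW hb)
    rcases zmod_cases (Bp (S.pr ((a : ↥(Cz z)) : G)) (S.pr ((b : ↥(Cz z)) : G))) with e' | e'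
    · exfalso
      exact hab (Subtype.ext (Subtype.ext ((S.commute_iff (hW ha) (hW hb)).2 e')))
    · rw [e', zp_one] at hc
      rw [← hc]
      exact W.mul_mem (W.mul_mem (W.mul_mem ha hb) (W.inv_mem ha)) (W.inv_mem hb)
  have hWcard : Nat.card W = 8 := by
    rw [← Nat.card_congr ((⁅Q, Y⁆).equivMapOfInjective _ (Cz z).subtype_injective).toEquiv, hQY]
  have hcom : ∀ a ∈ oc z, y * a * y⁻¹ * a⁻¹ ∈ W := by
    intro a ha
    rw [hoc] at ha
    obtain ⟨a', ha', rfl⟩ := ha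
    refine ⟨⁅a', (g : ↥(Cz z))⁆⁻¹, Subgroup.inv_mem _ (Subgroup.commutator_mem_commutator ha' g.2), ?_⟩
    rw [hy, commutatorElement_inv, commutatorElement_def]
    simp
  obtain ⟨S', hS'⟩ := exists_standard S (isType_of_comm S yz y3 y1 W hW hWz hWcard hcom)
  exact ⟨S', y, ⟨yz, y3, hS'⟩, hYz⟩

theorem centralizer_zpowers (y : G) : Subgroup.centralizer ((Subgroup.zpowers y : Subgroup G) : Set G) = Cy y := by
  rw [Subgroup.zpowers_eq_closure, Subgroup.centralizer_closure]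

end Cfsg.Agent.SuzThree
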