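import Cfsg.Agent.SuzThree.Quot
import Cfsg.Agent.SuzType.Build
import Cfsg.Agent.U43Type.Root

/-!
The centraliser of `y` is a perfect central extension of `U₄(3)`.
-/

set_option autoImplicit false
set_option linter.all false
set_option maxRecDepth 100000
set_option maxHeartbeats 1000000

open Cfsg Cfsg.Agent.ThreeTrans.OrthCohom Cfsg.Agent.Classical.Quad QuadraticMap Cfsg.Agent.LargeExtra

namespace Cfsg.Agent.SuzThree

open scoped commutatorElement

open Cfsg.Agent.SuzType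

variable {G : Type*} [Group G] [Finite G] {z : G}

/-- The elements of order three in question. -/
theorem isType_of_comm (S : Suz z) {y : G} (yz : y * z = z * y) (y3 : y ^ 3 = 1) (y1 : y ≠ 1)
    (W : Subgroup G) (hW : W ≤ oc z) (hz : z ∈ W) (hcard : Nat.card W = 8)
    (hcom : ∀ a ∈ oc z, y * a * y⁻¹ * a⁻¹ ∈ W) : IsType S y := by
  classical
  refine ⟨yz, y3, y1, ?_⟩
  let N : V →+ V := AddMonoidHom.mk' (fun x => (S.act y).1 x + x) fun a b => by
    rw [map_add]; abel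
  have hmem : ∀ v : N.range, ∃ w, w ∈ W ∧ S.pr w = (v : V) := by
    rintro ⟨_, x, rfl⟩
    obtain ⟨a, ha, rfl⟩ := S.pr_surj x
    refine ⟨_, hcom a ha, ?_⟩
    show _ = (S.act y).1 (S.pr a) + S.pr a
    rw [S.pr_mul _ (S.nrm yz ha) _ (inv_mem ha), S.act_spec y yz a ha, S.pr_inv ha]
  choose lift hl hp using hmem
  have hinj : Function.Injective (fun p : N.range × Fin 2 =>
      (⟨lift p.1 * z ^ p.2.val, mul_mem (hl p.1) (pow_mem hz _)⟩ : W)) := by
    rintro ⟨v, i⟩ ⟨v', i'⟩ e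
    have e' : lift v * z ^ i.val = lift v' * z ^ i'.val := congrArg Subtype.val e
    have hzp : ∀ k : ℕ, S.pr (z ^ k) = 0 := by
      intro k
      induction k with
      | zero => rw [pow_zero, S.pr_one]
      | succ k ih => rw [pow_succ, S.pr_mul _ (pow_mem S.zmem k) _ S.zmem, ih, S.pr_z, add_zero]
    have h1 := congrArg S.pr e'
    rw [S.pr_mul _ (hW (hl v)) _ (pow_mem S.zmem _), S.pr_mul _ (hW (hl v')) _ (pow_mem S.zmem _), hzp, hzp,
      add_zero, add_zero, hp, hp] at h1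
    obtain rfl : v = v' := Subtype.ext h1
    have h2 := mul_left_cancel e'
    fin_cases i <;> fin_cases i' <;> simp [S.zne, S.zne.symm] at h2 ⊢
  have hle := Nat.card_le_card_of_injective _ hinj
  rw [Nat.card_prod, Nat.card_fin, hcard] at hle
  have hc := N.ker.card_mul_index
  rw [AddSubgroup.index_ker, show Nat.card V = 64 by simp] at hc
  have hk : Nat.card N.ker = fixN (S.act y) := Nat.card_congr (Equiv.subtypeEquivRight fun x => by
    show (S.act y).1 x + x = 0 ↔ (S.act y).1 x = x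
    exact ⟨v_eq_of_add, fun e => by rw [e, v_add_self]⟩)
  rw [hk] at hc
  nlinarith

variable {S : Suz z} {y : G} (h : Std3 S y)
include h

theorem zbar_ne : pm y z ≠ 1 := fun e =>
  S.zne (two_part_eq h (z_Cy h) (one_mem _) (z_four h) (one_pow 4) (e.trans (pm_one y).symm))

theorem zbar_sq : pm y z * pm y z = 1 := by rw [← pm_mul (z_Cy h) (z_Cy h), S.zz, pm_one]

theorem exists_u43 : Nonempty (U43Type.Std (pm y z)) := by
  obtain ⟨T⟩ := exists_quot_setup h
  exact T.exists_std (zbar_ne h) (zbar_sq h)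

theorem simple_M : IsSimpleGroup (My y) := by
  obtain ⟨T⟩ := exists_u43 h
  obtain ⟨e⟩ := T.nonempty_iso U43Type.F9 U43Type.card_F9
  haveI : IsSimpleGroup (Cfsg.PSU 4 U43Type.F9 3) :=
    Cfsg.Agent.S0283.result (q := 3) (by rw [U43Type.card_F9]; norm_num) 4 (by norm_num) (by norm_num)
  exact e.isSimpleGroup

theorem zbar_not_central : pm y z ∉ Subgroup.center (My y) := by
  intro hc
  obtain ⟨T⟩ := exists_u43 h
  have htop : Subgroup.centralizer ({pm y z} : Set (My y)) = ⊤ := eq_top_iff.2 fun m _ =>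
    Subgroup.mem_centralizer_singleton_iff.2 (Subgroup.mem_center_iff.1 hc m)
  have h1 := card_cent_pm h
  rw [htop, Subgroup.card_top, T.card_group] at h1
  omega

theorem center_M : Subgroup.center (My y) = ⊥ := by
  haveI := simple_M h
  exact (IsSimpleGroup.eq_bot_or_eq_top_of_normal (Subgroup.center (My y)) inferInstance).resolve_right
    fun e => zbar_not_central h (e ▸ Subgroup.mem_top _)

theorem commutator_M : commutator (My y) = ⊤ := by
  haveI := simple_M h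
  refine (IsSimpleGroup.eq_bot_or_eq_top_of_normal (commutator (My y)) inferInstance).resolve_left fun e => ?_
  refine zbar_not_central h (Subgroup.mem_center_iff.2 fun m => ?_)
  have hm : ⁅m, pm y z⁆ ∈ commutator (My y) :=
    Subgroup.commutator_mem_commutator (Subgroup.mem_top _) (Subgroup.mem_top _)
  rw [e, Subgroup.mem_bot] at hm
  exact commutatorElement_eq_one_iff_mul_comm.1 hm

theorem y_mem_derived : (⟨y, y_Cy h⟩ : ↥(Cy y)) ∈ commutator ↥(Cy y) := by
  classical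
  obtain ⟨D, hD⟩ : ∃ D, D = commutator ↥(Cy y) := ⟨_, rfl⟩
  rw [← hD]
  by_contra hy
  haveI hDn : D.Normal := by rw [hD]; infer_instance
  have hDC : ∀ a b : ↥(Cy y), a * b * a⁻¹ * b⁻¹ ∈ D := fun a b => by
    rw [hD]
    exact Subgroup.commutator_mem_commutator (Subgroup.mem_top a) (Subgroup.mem_top b)
  have hmap : ∀ m : My y, ∃ d ∈ D, QuotientGroup.mk' (Yn y) d = m := by
    intro m
    have : m ∈ D.map (QuotientGroup.mk' (Yn y)) := by
      rw [hD, commutator_def, Subgroup.map_commutator, Subgroup.map_top_of_surjective _ (QuotientGroup.mk'_surjective _),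
        ← commutator_def, commutator_M h]
      exact Subgroup.mem_top _
    exact this
  have ypow : ∀ k : ℕ, k < 3 → (⟨y, y_Cy h⟩ : ↥(Cy y)) ^ k ∈ D → k = 0 := by
    intro k hk hm
    interval_cases k
    · rfl
    · exact absurd (by rwa [pow_one] at hm) hy
    · refine absurd ?_ hy
      have := D.mul_mem hm hm
      rwa [← pow_add, show (2 : ℕ) + 2 = 3 + 1 from rfl, pow_succ,
        show (⟨y, y_Cy h⟩ : ↥(Cy y)) ^ 3 = 1 from Subtype.ext h.y3, one_mul] at this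
  have inD : ∀ (a b : ↥(Cy y)), a ∈ D → b ∈ D → pm y (a : G) = pm y (b : G) → (a : G) = (b : G) := by
    intro a b ha hb e
    obtain ⟨k, hk, e'⟩ := pm_eq a.2 b.2 h.y3 e
    have : (⟨y, y_Cy h⟩ : ↥(Cy y)) ^ k = a⁻¹ * b := Subtype.ext (by
      show y ^ k = (a : G)⁻¹ * (b : G)
      rw [e', inv_mul_cancel_left])
    rw [e', ypow k hk (this ▸ D.mul_mem (D.inv_mem ha) hb), pow_zero, mul_one]
  have twoD : ∀ q : ↥(Cy y), (q : G) ^ 4 = 1 → q ∈ D := by
    intro q q4
    obtain ⟨d, hd, e⟩ := hmap (pm y (q : G))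
    have e' : pm y (d : G) = pm y (q : G) := by rw [pm_def d.2]; exact e
    obtain ⟨k, hk, hqd⟩ := pm_eq d.2 q.2 h.y3 e'
    have hq : q = d * (⟨y, y_Cy h⟩ : ↥(Cy y)) ^ k := Subtype.ext hqd
    have hc : Commute d ((⟨y, y_Cy h⟩ : ↥(Cy y)) ^ k) :=
      Commute.pow_right (Subtype.ext (mem_Cy.1 d.2)) k
    have h4 : q ^ 4 = 1 := Subtype.ext q4
    rw [hq, hc.mul_pow] at h4
    have hk4 : ((⟨y, y_Cy h⟩ : ↥(Cy y)) ^ k) ^ 4 = (⟨y, y_Cy h⟩ : ↥(Cy y)) ^ k := by
      rw [pow_succ, ← pow_mul, mul_comm k 3, pow_mul, show (⟨y, y_Cy h⟩ : ↥(Cy y)) ^ 3 = 1 from Subtype.ext h.y3,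
        one_pow, one_mul]
    rw [hk4] at h4
    have hm : (⟨y, y_Cy h⟩ : ↥(Cy y)) ^ k ∈ D := by
      rw [eq_inv_of_mul_eq_one_right h4]
      exact D.inv_mem (D.pow_mem hd 4)
    rw [hq]
    exact D.mul_mem hd hm
  obtain ⟨i₁, j₁, x₁, i₂, j₂, x₂, F⟩ := exists_factors h
  have D1 := F.one
  have D2 := F.two
  obtain ⟨c, cz, cy, ce⟩ := exists_cent h Mu_spec.1 R0Mu
  have hx1C : x₁ ∈ Cy y := mem_Cy.2 D1.xy
  have hcC : c ∈ Cy y := mem_Cy.2 cy
  have hxD : (⟨x₁, hx1C⟩ : ↥(Cy y)) ∈ D := by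
    obtain ⟨q, hq⟩ : ∃ q, q = x₁⁻¹ * (c * x₁ * c⁻¹ * x₁⁻¹) := ⟨_, rfl⟩
    have hcx := conj_cent S cz D1.xz
    have hqz : q * z = z * q :=
      hq ▸ (Commute.mul_left (Commute.inv_left D1.xz) (Commute.mul_left hcx (Commute.inv_left D1.xz))).eq
    have hqC : q ∈ Cy y := hq ▸ mul_mem (inv_mem hx1C) (mul_mem (mul_mem (mul_mem hcC hx1C) (inv_mem hcC)) (inv_mem hx1C))
    have hqoc : q ∈ oc z := S.act_ker q hqz (by
      rw [hq, S.act_mul (Commute.inv_left D1.xz).eq (Commute.mul_left hcx (Commute.inv_left D1.xz)).eq,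
        S.act_mul hcx (Commute.inv_left D1.xz).eq, S.act_inv D1.xz, act_conj S cz D1.xz, ce, D1.xa, MuR1,
        mul_inv_cancel_right, pow_two, mul_inv_cancel_right, inv_mul_cancel])
    have h1 := hDC ⟨c, hcC⟩ ⟨x₁, hx1C⟩
    have h2 := twoD ⟨q, hqC⟩ (pow_four S hqoc)
    have e : (⟨x₁, hx1C⟩ : ↥(Cy y)) =
        (⟨c, hcC⟩ * ⟨x₁, hx1C⟩ * ⟨c, hcC⟩⁻¹ * ⟨x₁, hx1C⟩⁻¹) * (⟨q, hqC⟩ : ↥(Cy y))⁻¹ := by
      refine Subtype.ext ?_
      show x₁ = c * x₁ * c⁻¹ * x₁⁻¹ * q⁻¹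
      rw [hq]; group
    rw [e]
    exact D.mul_mem h1 (D.inv_mem h2)
  obtain ⟨T⟩ := exists_u43 h
  have hi2 : i₂ ∈ Cy y := mem_Cy.2 (Side.iy h D2)
  have hj2 : j₂ ∈ Cy y := mem_Cy.2 (Side.jy h D2)
  have hzC := z_Cy h
  obtain ⟨ub, vb, hub, hvb, huv⟩ := T.root_comm (x := pm y x₁) (j := pm y i₂) (k := pm y j₂)
    (by rw [← pm_mul hx1C hzC, ← pm_mul hzC hx1C, D1.xz])
    (by rw [← pm_mul hx1C hx1C, ← pm_mul hx1C (mul_mem hx1C hx1C),
      show x₁ * (x₁ * x₁) = 1 by rw [← pow_two, ← pow_succ', D1.x3], pm_one])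
    (fun e => by
      have := pm_inj_act h hx1C (one_mem _) D1.xz (by simp)
        (by rw [D1.xa, S.act_one, oG_one_apply, (R1_spec.2 16 (by norm_num)).2, D1.r16]) (e.trans (pm_one y).symm)
      have h1 : R1 = 1 := by rw [← D1.xa, this, S.act_one]
      have h2 : dc (r1 5) = dc 5 := by rw [← (R1_spec.2 5 (by norm_num)).2, h1, oG_one_apply]
      exact absurd (dc_inj (by decide +kernel) (by norm_num) h2) (by decide +kernel))
    (by rw [← pm_mul hi2 hzC, ← pm_mul hzC hi2, S.comm D2.iq])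
    (by rw [← pm_mul hj2 hzC, ← pm_mul hzC hj2, S.comm D2.jq])
    (by rw [← pm_mul hi2 hi2, Side.ii h D2])
    (by rw [← pm_mul hj2 hj2, Side.jj h D2])
    (by rw [← pm_mul hx1C hi2, ← pm_mul hi2 hx1C,
      factors_comm h F (Side.mem_x h D1) (Side.mem_i h D2)])
    (by rw [← pm_mul hx1C hj2, ← pm_mul hj2 hx1C,
      factors_comm h F (Side.mem_x h D1) (Side.mem_j h D2)])
    (fun e => by
      rw [← pm_mul hi2 hj2, ← pm_mul hj2 hi2] at e
      have := two_part_eq h (mul_mem hi2 hj2) (mul_mem hj2 hi2) (pow_four S (mul_mem D2.iq D2.jq))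
        (pow_four S (mul_mem D2.jq D2.iq)) e
      refine S.zne ?_
      rw [← Side.ij h D2, this]
      group)
  obtain ⟨u, hu, eu⟩ := hmap ub
  obtain ⟨v, hv, ev⟩ := hmap vb
  have pu : pm y (u : G) = ub := by rw [pm_def u.2]; exact eu
  have pv : pm y (v : G) = vb := by rw [pm_def v.2]; exact ev
  let X : ↥(Cy y) := ⟨x₁, hx1C⟩
  have e1 : (u : G) * x₁ = x₁ * (u : G) := inD (u * X) (X * u) (D.mul_mem hu hxD) (D.mul_mem hxD hu) (by
    show pm y ((u : G) * x₁) = pm y (x₁ * (u : G))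
    rw [pm_mul u.2 hx1C, pm_mul hx1C u.2, pu, hub])
  have e2 : (v : G) * x₁ = x₁ * (v : G) := inD (v * X) (X * v) (D.mul_mem hv hxD) (D.mul_mem hxD hv) (by
    show pm y ((v : G) * x₁) = pm y (x₁ * (v : G))
    rw [pm_mul v.2 hx1C, pm_mul hx1C v.2, pv, hvb])
  have e3 : (u : G) * (v : G) * (u : G)⁻¹ * (v : G)⁻¹ = x₁ := inD (u * v * u⁻¹ * v⁻¹) X
    (D.mul_mem (D.mul_mem (D.mul_mem hu hv) (D.inv_mem hu)) (D.inv_mem hv)) hxD (by
    show pm y ((u : G) * (v : G) * (u : G)⁻¹ * (v : G)⁻¹) = pm y x₁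
    rw [pm_mul (mul_mem (mul_mem u.2 v.2) (inv_mem u.2)) (inv_mem v.2), pm_mul (mul_mem u.2 v.2) (inv_mem u.2),
      pm_mul u.2 v.2, pm_inv u.2, pm_inv v.2, pu, pv, huv])
  obtain ⟨g, gz, ge⟩ := conj_type S (x := x₁) (y := y) ⟨D1.xz, D1.x3, fun e => by
      have h1 : R1 = 1 := by rw [← D1.xa, e, S.act_one]
      have h2 : dc (r1 5) = dc 5 := by rw [← (R1_spec.2 5 (by norm_num)).2, h1, oG_one_apply]
      exact absurd (dc_inj (by decide +kernel) (by norm_num) h2) (by decide +kernel),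
    by rw [D1.xa]; exact fix_card.2⟩ (std_type h)
  have hw : ∀ w : G, w * x₁ = x₁ * w → g * w * g⁻¹ ∈ Cy y := fun w hw => by
    rw [mem_Cy, ← ge]
    calc g * w * g⁻¹ * (g * x₁ * g⁻¹) = g * (w * x₁) * g⁻¹ := by group
      _ = _ := by rw [hw]; group
  apply hy
  have := hDC ⟨_, hw _ e1⟩ ⟨_, hw _ e2⟩
  convert this using 1
  refine Subtype.ext ?_
  show y = g * (u : G) * g⁻¹ * (g * (v : G) * g⁻¹) * (g * (u : G) * g⁻¹)⁻¹ * (g * (v : G) * g⁻¹)⁻¹
  calc y = g * x₁ * g⁻¹ := ge.symm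
    _ = g * ((u : G) * (v : G) * (u : G)⁻¹ * (v : G)⁻¹) * g⁻¹ := by rw [e3]
    _ = _ := by group

theorem perfect : commutator ↥(Cy y) = ⊤ := by
  rw [eq_top_iff]
  intro g _
  have hy := y_mem_derived h
  obtain ⟨d, hd, e⟩ : QuotientGroup.mk' (Yn y) g ∈ (commutator ↥(Cy y)).map (QuotientGroup.mk' (Yn y)) := by
    rw [commutator_def, Subgroup.map_commutator, Subgroup.map_top_of_surjective _ (QuotientGroup.mk'_surjective _),
      ← commutator_def, commutator_M h]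
    exact Subgroup.mem_top _
  obtain ⟨k, hk, e'⟩ := pm_eq d.2 g.2 h.y3 (by rw [pm_def d.2, pm_def g.2]; exact e)
  rw [show g = d * (⟨y, y_Cy h⟩ : ↥(Cy y)) ^ k from Subtype.ext e']
  exact mul_mem hd (pow_mem hy k)

theorem center_eq : Subgroup.center ↥(Cy y) = Yn y := by
  refine le_antisymm (fun g hg => ?_) (fun g hg => ?_)
  · have : QuotientGroup.mk' (Yn y) g ∈ Subgroup.center (My y) := by
      rw [Subgroup.mem_center_iff]
      intro m
      obtain ⟨a, rfl⟩ := QuotientGroup.mk'_surjective (Yn y) m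
      rw [← map_mul, Subgroup.mem_center_iff.1 hg a, map_mul]
    rw [center_M h, Subgroup.mem_bot] at this
    exact (QuotientGroup.eq_one_iff g).1 this
  · obtain ⟨k, hk⟩ := Subgroup.mem_zpowers_iff.1 (Subgroup.mem_subgroupOf.1 hg)
    rw [Subgroup.mem_center_iff]
    intro a
    refine Subtype.ext ?_
    show (a : G) * (g : G) = (g : G) * (a : G)
    rw [← hk]
    exact (Commute.zpow_right (mem_Cy.1 a.2) k).eq

theorem quasisimple : Cfsg.IsQuasisimple ↥(Cy y) := by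
  refine ⟨⟨perfect h⟩, ?_⟩
  haveI := simple_M h
  exact (QuotientGroup.quotientMulEquivOfEq (center_eq h)).isSimpleGroup

theorem iso_M (K : Type) [Field K] [Fintype K] (hK : Fintype.card K = 9) :
    Nonempty (My y ≃* Cfsg.PSU 4 K 3) := by
  obtain ⟨T⟩ := exists_u43 h
  exact T.nonempty_iso K hK

theorem norm_index :
    (Cy y).relIndex (Subgroup.normalizer ((Subgroup.zpowers y : Subgroup G) : Set G)) = 2 := by
  have hy := std_type h
  have iy : IsType S y⁻¹ := ⟨(Commute.inv_left h.yz).eq, by rw [inv_pow, h.y3, inv_one],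
    fun e => hy.ne (inv_eq_one.1 e), by
      refine hy.fix.trans (Nat.card_le_card_of_injective (fun x : {x : V // (S.act y).1 x = x} =>
        (⟨x.1, by
          rw [S.act_inv h.yz]
          conv_lhs => rw [← x.2]
          rw [← oG_mul_apply, inv_mul_cancel, oG_one_apply]⟩ : {x : V // (S.act y⁻¹).1 x = x}))
        fun a b e => Subtype.ext (congrArg Subtype.val e :))⟩
  obtain ⟨m, mz, me⟩ := conj_type S hy iy
  have ord : orderOf y = 3 := orderOf_eq_prime h.y3 hy.ne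
  have yne : y⁻¹ ≠ y := fun e => hy.ne (by
    have h2 : y ^ 2 = 1 := by rw [pow_two]; nth_rewrite 1 [← e]; exact inv_mul_cancel y
    have h3 := h.y3
    rwa [pow_succ, h2, one_mul] at h3)
  have norm : ∀ n ∈ Subgroup.normalizer ((Subgroup.zpowers y : Subgroup G) : Set G),
      n * y * n⁻¹ = y ∨ n * y * n⁻¹ = y⁻¹ := by
    intro n hn
    obtain ⟨k, hk⟩ := Subgroup.mem_zpowers_iff.1 ((Subgroup.mem_normalizer_iff.1 hn y).1 (Subgroup.mem_zpowers y))
    rw [← hk, ← zpow_mod_orderOf, ord]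
    have h0 : (0 : ℤ) ≤ k % 3 := Int.emod_nonneg _ (by norm_num)
    have h2 : k % 3 < 3 := Int.emod_lt_of_pos _ (by norm_num)
    rw [show ((3 : ℕ) : ℤ) = 3 from rfl]
    rw [← zpow_mod_orderOf, ord, show ((3 : ℕ) : ℤ) = 3 from rfl] at hk
    interval_cases hk3 : k % 3
    · exfalso
      rw [zpow_zero] at hk
      exact hy.ne (conj_eq_one_iff.1 hk.symm)
    · exact Or.inl (zpow_one y)
    · refine Or.inr ?_
      rw [show ((2 : ℤ)) = ((2 : ℕ) : ℤ) from rfl, zpow_natCast]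
      exact eq_inv_of_mul_eq_one_left (by rw [← pow_succ, h.y3])
  have mn : m ∈ Subgroup.normalizer ((Subgroup.zpowers y : Subgroup G) : Set G) := by
    rw [Subgroup.mem_normalizer_iff]
    intro w
    have hm : (Subgroup.zpowers y).map (MulAut.conj m).toMonoidHom = Subgroup.zpowers y := by
      rw [MonoidHom.map_zpowers]
      show Subgroup.zpowers (m * y * m⁻¹) = _
      rw [me, Subgroup.zpowers_inv]
    conv_rhs => rw [← hm]
    exact ⟨fun hw => Subgroup.mem_map_of_mem _ hw, fun ⟨v, hv, e⟩ => by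
      rwa [(MulAut.conj m).injective (show MulAut.conj m v = MulAut.conj m w from e)] at hv⟩
  rw [Subgroup.relIndex, Subgroup.index_eq_two_iff]
  refine ⟨⟨m, mn⟩, fun b => ?_⟩
  simp only [Subgroup.mem_subgroupOf, Subgroup.coe_mul, mem_Cy]
  have hb := norm b b.2
  have e1 : (b : G) * y = y * (b : G) ↔ (b : G) * y * (b : G)⁻¹ = y := mul_inv_eq_iff_eq_mul.symm
  have e2 : (b : G) * m * y = y * ((b : G) * m) ↔ (b : G) * y * (b : G)⁻¹ = y⁻¹ := by
    rw [← mul_inv_eq_iff_eq_mul]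
    have : (b : G) * m * y * ((b : G) * m)⁻¹ = ((b : G) * y * (b : G)⁻¹)⁻¹ := by
      calc (b : G) * m * y * ((b : G) * m)⁻¹ = (b : G) * (m * y * m⁻¹) * (b : G)⁻¹ := by group
        _ = _ := by rw [me]; group
    rw [this, inv_eq_iff_eq_inv]
  rw [e1, e2]
  rcases hb with e | e
  · exact Or.inr ⟨e, fun h' => yne (h'.symm.trans e)⟩
  · exact Or.inl ⟨e, fun h' => yne (e.symm.trans h')⟩

end Cfsg.Agent.SuzThree
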