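import Cfsg.Agent.SuzThree.Three
import Cfsg.Agent.U43Type.Fixed
import Cfsg.Agent.LocalStructure.SL23Iso

/-!
The two factors in the quotient of the centraliser of `y`.
-/

set_option autoImplicit false
set_option linter.all false
set_option maxRecDepth 100000
set_option maxHeartbeats 1000000

open Cfsg Cfsg.Agent.ThreeTrans.OrthCohom Cfsg.Agent.Classical.Quad QuadraticMap Cfsg.Agent.LargeExtra

namespace Cfsg.Agent.SuzThree

open Cfsg.Agent.SuzType

variable {G : Type*} [Group G] [Finite G] {z : G}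

/-- The centraliser of `y`. -/
abbrev Cy (y : G) : Subgroup G := Subgroup.centralizer ({y} : Set G)

/-- The subgroup generated by `y` inside it. -/
abbrev Yn (y : G) : Subgroup ↥(Cy y) := (Subgroup.zpowers y).subgroupOf (Cy y)

instance (y : G) : (Yn y).Normal := ⟨fun a ha g => by
  obtain ⟨k, hk⟩ := Subgroup.mem_zpowers_iff.1 (Subgroup.mem_subgroupOf.1 ha)
  have hg : Commute (g : G) y := Subgroup.mem_centralizer_singleton_iff.1 g.2
  have : g * a * g⁻¹ = a := by
    refine mul_inv_eq_iff_eq_mul.2 (Subtype.ext ?_)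
    show (g : G) * (a : G) = (a : G) * (g : G)
    rw [← hk]
    exact (hg.zpow_right k).eq
  rw [this]
  exact ha⟩

/-- The quotient. -/
abbrev My (y : G) : Type _ := ↥(Cy y) ⧸ Yn y

/-- The image of an element. -/
noncomputable def pm (y a : G) : My y :=
  haveI := Classical.dec (a ∈ Cy y)
  if h : a ∈ Cy y then QuotientGroup.mk' _ ⟨a, h⟩ else 1

theorem mem_Cy {y a : G} : a ∈ Cy y ↔ a * y = y * a := Subgroup.mem_centralizer_singleton_iff

theorem pm_def {y a : G} (ha : a ∈ Cy y) : pm y a = QuotientGroup.mk' (Yn y) ⟨a, ha⟩ := dif_pos ha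

theorem pm_mul {y a b : G} (ha : a ∈ Cy y) (hb : b ∈ Cy y) : pm y (a * b) = pm y a * pm y b := by
  rw [pm_def (mul_mem ha hb), pm_def ha, pm_def hb, ← map_mul]
  rfl

theorem pm_one (y : G) : pm y 1 = 1 := by
  rw [pm_def (one_mem _)]
  exact map_one _

theorem pm_inv {y a : G} (ha : a ∈ Cy y) : pm y a⁻¹ = (pm y a)⁻¹ := by
  rw [pm_def (inv_mem ha), pm_def ha, ← map_inv]
  rfl

theorem pm_pow {y a : G} (ha : a ∈ Cy y) : ∀ n : ℕ, pm y (a ^ n) = pm y a ^ n
  | 0 => by rw [pow_zero, pow_zero, pm_one]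
  | n + 1 => by rw [pow_succ, pow_succ, pm_mul (pow_mem ha n) ha, pm_pow ha n]

theorem pm_surj {y : G} (m : My y) : ∃ a ∈ Cy y, pm y a = m := by
  obtain ⟨⟨a, ha⟩, rfl⟩ := QuotientGroup.mk'_surjective (Yn y) m
  exact ⟨a, ha, pm_def ha⟩

theorem pm_eq {y a b : G} (ha : a ∈ Cy y) (hb : b ∈ Cy y) (y3 : y ^ 3 = 1) (h : pm y a = pm y b) :
    ∃ k : ℕ, k < 3 ∧ b = a * y ^ k := by
  rw [pm_def ha, pm_def hb] at h
  obtain ⟨k, hk⟩ := Subgroup.mem_zpowers_iff.1 (Subgroup.mem_subgroupOf.1 (QuotientGroup.eq.1 h))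
  have hk' : y ^ (k % 3) = a⁻¹ * b := by
    have e : y ^ k = y ^ (k % 3 + 3 * (k / 3)) := by rw [Int.emod_add_mul_ediv]
    rw [zpow_add, zpow_mul, show y ^ (3 : ℤ) = 1 from (zpow_natCast y 3).trans y3, one_zpow, mul_one] at e
    exact e.symm.trans hk
  refine ⟨(k % 3).toNat, by omega, ?_⟩
  rw [← zpow_natCast, Int.toNat_of_nonneg (Int.emod_nonneg _ (by norm_num)), hk', mul_inv_cancel_left]

variable {S : Suz z} {y : G} (h : Std3 S y)
include h

theorem z_Cy : z ∈ Cy y := mem_Cy.2 h.yz.symm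

theorem y_Cy : y ∈ Cy y := mem_Cy.2 rfl

/-- Elements equal in the quotient with equal value on a moved vector are equal. -/
theorem pm_inj_act {a b : G} (ha : a ∈ Cy y) (hb : b ∈ Cy y) (az : a * z = z * a) (bz : b * z = z * b)
    (he : (S.act a).1 (dc 16) = (S.act b).1 (dc 16)) (hp : pm y a = pm y b) : a = b := by
  obtain ⟨k, hk, rfl⟩ := pm_eq ha hb h.y3 hp
  rw [S.act_mul az (Commute.pow_left h.yz k).eq, act_pow S h.yz, h.act, oG_mul_apply,
    (R0_spec.2.pow k 16 (by norm_num)).2] at he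
  have e2 : dc 16 = dc (r0^[k] 16) := (S.act a).1.injective he
  have hne : ∀ j < 3, r0^[j] 16 = 16 → j = 0 := by decide +kernel
  rw [hne k hk (dc_inj (R0_spec.2.pow k 16 (by norm_num)).1 (by norm_num) e2.symm), pow_zero, mul_one]

variable (S) (y) in
/-- What is needed of a factor. -/
structure Side (R : O) (r : ℕ → ℕ) (a b c d : ℕ) (i j x : G) : Prop where
  la : a < 16
  lb : b < 16
  lc : c < 16
  ld : d < 16
  code : IsCode R r
  rc : r c = c
  rd : r d = d
  r16 : r 16 = 16
  ra : r a = b ∧ r (r a) = a ^^^ b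
  bac : Bn a b = true ∧ Bn a c = false ∧ Bn a d = false ∧ Bn b c = false ∧ Bn b d = false
  qab : qn a = true ∧ qn b = true
  iq : i ∈ oc z
  jq : j ∈ oc z
  ip : S.pr i = dc a
  jp : S.pr j = dc b
  xz : x * z = z * x
  xy : x * y = y * x
  x3 : x ^ 3 = 1
  xa : S.act x = R
  xi : x * i = j * x
  xj : x * j = i * j * x

theorem exists_side {R : O} {r : ℕ → ℕ} {a b c d : ℕ} {x : G} (la : a < 16) (lb : b < 16) (lc : c < 16)
    (ld : d < 16) (code : IsCode R r) (rc : r c = c) (rd : r d = d) (r16 : r 16 = 16)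
    (ra : r a = b ∧ r (r a) = a ^^^ b)
    (bac : Bn a b = true ∧ Bn a c = false ∧ Bn a d = false ∧ Bn b c = false ∧ Bn b d = false)
    (qab : qn a = true ∧ qn b = true) (xz : x * z = z * x) (xy : x * y = y * x) (x3 : x ^ 3 = 1)
    (xa : S.act x = R) : ∃ i j, Side S y R r a b c d i j x := by
  obtain ⟨i, hi, hip⟩ := S.pr_surj (dc a)
  have hj := S.nrm xz hi
  have hjp : S.pr (x * i * x⁻¹) = dc b := by rw [S.act_spec x xz i hi, xa, hip, (code a (by omega)).2, ra.1]
  have hk := S.nrm xz hj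
  have hkp : S.pr (x * (x * i * x⁻¹) * x⁻¹) = dc (a ^^^ b) := by
    rw [S.act_spec x xz _ hj, xa, hjp, (code b (by omega)).2, ← ra.1, ra.2, ra.1]
  have hij : S.pr (i * (x * i * x⁻¹)) = dc (a ^^^ b) := by
    rw [S.pr_mul _ hi _ hj, hip, hjp, dc_xor (by omega) (by omega)]
  rcases S.pr_eq (mul_mem hi hj) hk (hij.trans hkp.symm) with e | e
  · exact ⟨i, x * i * x⁻¹, la, lb, lc, ld, code, rc, rd, r16, ra, bac, qab, hi, hj, hip, hjp, xz, xy, x3, xa,
      by group, by rw [← mul_inv_eq_iff_eq_mul]; exact e⟩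
  · refine ⟨i * z, x * i * x⁻¹ * z, la, lb, lc, ld, code, rc, rd, r16, ra, bac, qab, mul_mem hi S.zmem,
      mul_mem hj S.zmem, ?_, ?_, xz, xy, x3, xa, ?_, ?_⟩
    · rw [S.pr_mul _ hi _ S.zmem, hip, S.pr_z, add_zero]
    · rw [S.pr_mul _ hj _ S.zmem, hjp, S.pr_z, add_zero]
    · calc x * (i * z) = x * i * x⁻¹ * (x * z) := by group
        _ = _ := by rw [xz]; group
    · calc x * (x * i * x⁻¹ * z) = x * (x * i * x⁻¹) * x⁻¹ * (x * z) := by group
        _ = i * (x * i * x⁻¹) * z * (z * x) := by rw [e, xz]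
        _ = i * ((x * i * x⁻¹) * z) * (z * x) := by group
        _ = i * (z * (x * i * x⁻¹)) * (z * x) := by rw [S.comm hj]
        _ = i * z * (x * i * x⁻¹ * z) * x := by group

/-- The subgroup generated by a factor. -/
def sideSub {H : Type*} [Group H] (i j x : H) : Subgroup H := Subgroup.closure {i, j, x}

namespace Side

variable {R : O} {r : ℕ → ℕ} {a b c d : ℕ} {i j x : G} (D : Side S y R r a b c d i j x)
include D

theorem iy : i * y = y * i := (comm_small h D.iq D.la D.ip).symm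

theorem jy : j * y = y * j := (comm_small h D.jq D.lb D.jp).symm

theorem ii : i * i = z := by rw [S.pr_sq i D.iq, D.ip, q_dc (by have := D.la; omega), D.qab.1]; exact zp_one z

theorem jj : j * j = z := by rw [S.pr_sq j D.jq, D.jp, q_dc (by have := D.lb; omega), D.qab.2]; exact zp_one z

theorem ij : i * j * i⁻¹ * j⁻¹ = z := by
  rw [S.commutator_eq D.iq D.jq, D.ip, D.jp, Bp_dc (by have := D.la; omega) (by have := D.lb; omega), D.bac.1]
  exact zp_one z

theorem rel : LocalStructure.BTRel i j x where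
  i4 := by rw [show (4 : ℕ) = 2 * 2 from rfl, pow_mul, pow_two, pow_two, ii h D, S.zz]
  j2 := by rw [ii h D, jj h D]
  ji := by
    have hz : z * i = i * z := (S.comm D.iq).symm
    have e : i * j = z * (j * i) := by
      have := ij h D
      calc i * j = i * j * i⁻¹ * j⁻¹ * (j * i) := by group
        _ = _ := by rw [this]
    calc j * i = z * z * (j * i) := by rw [S.zz, one_mul]
      _ = z * (z * (j * i)) := mul_assoc _ _ _
      _ = (z * i) * j := by rw [← e, mul_assoc]
      _ = i ^ 3 * j := by rw [pow_succ, pow_two, ii h D]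
  x3 := D.x3
  xi := D.xi
  xj := D.xj


theorem mem_i : i ∈ sideSub i j x := Subgroup.subset_closure (by simp)
theorem mem_j : j ∈ sideSub i j x := Subgroup.subset_closure (by simp)
theorem mem_x : x ∈ sideSub i j x := Subgroup.subset_closure (by simp)
theorem mem_z : z ∈ sideSub i j x := ii h D ▸ mul_mem (mem_i h D) (mem_i h D)

theorem sub_le : sideSub i j x ≤ Cy y ⊓ Subgroup.centralizer ({z} : Set G) := by
  rw [sideSub, Subgroup.closure_le]
  intro u hu
  simp only [Set.mem_insert_iff, Set.mem_singleton_iff] at hu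
  rcases hu with rfl | rfl | rfl
  · exact ⟨mem_Cy.2 (iy h D), Subgroup.mem_centralizer_singleton_iff.2 (S.comm D.iq)⟩
  · exact ⟨mem_Cy.2 (jy h D), Subgroup.mem_centralizer_singleton_iff.2 (S.comm D.jq)⟩
  · exact ⟨mem_Cy.2 D.xy, Subgroup.mem_centralizer_singleton_iff.2 D.xz⟩

theorem act_fix {u : G} (hu : u ∈ sideSub i j x) :
    (S.act u).1 (dc 16) = dc 16 ∧ (S.act u).1 (dc c) = dc c ∧ (S.act u).1 (dc d) = dc d := by
  have hz : ∀ v ∈ sideSub i j x, v * z = z * v := fun v hv => Subgroup.mem_centralizer_singleton_iff.1 (sub_le h D hv).2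
  have key : ∀ k, k < 64 → r k = k → ∀ v ∈ sideSub i j x, (S.act v).1 (dc k) = dc k := by
    intro k hk hr v hv
    rw [sideSub] at hv
    induction hv using Subgroup.closure_induction with
    | mem u hu =>
      simp only [Set.mem_insert_iff, Set.mem_singleton_iff] at hu
      rcases hu with rfl | rfl | rfl
      · rw [S.act_inner D.iq, oG_one_apply]
      · rw [S.act_inner D.jq, oG_one_apply]
      · rw [D.xa, (D.code k hk).2, hr]
    | one => rw [S.act_one, oG_one_apply]
    | mul p q hp hq ihp ihq => rw [S.act_mul (hz p hp) (hz q hq), oG_mul_apply, ihq, ihp]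
    | inv p hp ihp =>
      rw [S.act_inv (hz p hp)]
      conv_lhs => rw [← ihp]
      rw [← oG_mul_apply, inv_mul_cancel, oG_one_apply]
  exact ⟨key 16 (by norm_num) D.r16 u hu, key c (by have := D.lc; omega) D.rc u hu,
    key d (by have := D.ld; omega) D.rd u hu⟩

theorem inj_sub {u v : G} (hu : u ∈ sideSub i j x) (hv : v ∈ sideSub i j x) (e : pm y u = pm y v) : u = v :=
  pm_inj_act h (sub_le h D hu).1 (sub_le h D hv).1 (Subgroup.mem_centralizer_singleton_iff.1 (sub_le h D hu).2)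
    (Subgroup.mem_centralizer_singleton_iff.1 (sub_le h D hv).2) (by rw [(act_fix h D hu).1, (act_fix h D hv).1]) e

theorem card_sub : 24 ≤ Nat.card ↥(sideSub i j x) := by
  classical
  let f : Fin 4 × Fin 2 × Fin 3 → ↥(sideSub i j x) := fun t => ⟨i ^ t.1.val * j ^ t.2.1.val * x ^ t.2.2.val,
    mul_mem (mul_mem (pow_mem (mem_i h D) _) (pow_mem (mem_j h D) _)) (pow_mem (mem_x h D) _)⟩
  have hla : a < 64 := by have := D.la; omega
  have hlb : b < 64 := by have := D.lb; omega
  have hab : a ≠ b := fun e => by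
    have h1 := D.bac.1
    rw [e] at h1
    have : ∀ v : Fin 64, Bn v.val v.val = false := by decide +kernel
    rw [this ⟨b, hlb⟩] at h1
    exact Bool.noConfusion h1
  have ha0 : a ≠ 0 := fun e => by have := D.qab.1; rw [e] at this; exact absurd this (by decide +kernel)
  have hb0 : b ≠ 0 := fun e => by have := D.qab.2; rw [e] at this; exact absurd this (by decide +kernel)
  have hpow : ∀ (m : ℕ) (u : G), u ∈ oc z → S.pr (u ^ m) = m • S.pr u := by
    intro m u hu
    induction m with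
    | zero => rw [pow_zero, zero_nsmul, S.pr_one]
    | succ m ih => rw [pow_succ, S.pr_mul _ (pow_mem hu m) _ hu, ih, succ_nsmul]
  have hf : Function.Injective f := by
    rintro ⟨p, q, k⟩ ⟨p', q', k'⟩ e
    have e' : i ^ p.val * j ^ q.val * x ^ k.val = i ^ p'.val * j ^ q'.val * x ^ k'.val := congrArg Subtype.val e
    have hm : ∀ (p : Fin 4) (q : Fin 2), i ^ p.val * j ^ q.val ∈ oc z :=
      fun p q => mul_mem (pow_mem D.iq _) (pow_mem D.jq _)
    have hact := congrArg (fun u => (S.act u).1 (dc a)) e'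
    simp only [S.act_mul (S.comm (hm p q)) (Commute.pow_left D.xz _).eq,
      S.act_mul (S.comm (hm p' q')) (Commute.pow_left D.xz _).eq, S.act_inner (hm p q), S.act_inner (hm p' q'),
      one_mul, act_pow S D.xz, D.xa, (D.code.pow _ a hla).2] at hact
    have hk : k = k' := by
      have e1 := dc_inj (D.code.pow _ a hla).1 (D.code.pow _ a hla).1 hact
      have n1 : r a ≠ a := by rw [D.ra.1]; exact hab.symm
      have n2 : r (r a) ≠ a := by
        rw [D.ra.2]
        intro e
        exact hb0 (Nat.xor_right_injective (e.trans (Nat.xor_zero a).symm))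
      have n3 : r (r a) ≠ r a := by
        rw [D.ra.2, D.ra.1]
        intro e
        exact ha0 (Nat.xor_left_injective (e.trans (Nat.zero_xor b).symm))
      fin_cases k <;> fin_cases k' <;> simp [n1, n2, n3, n1.symm, n2.symm, n3.symm] at e1 ⊢
    subst hk
    have e2 := mul_right_cancel e'
    have hp := congrArg S.pr e2
    rw [S.pr_mul _ (pow_mem D.iq _) _ (pow_mem D.jq _), S.pr_mul _ (pow_mem D.iq _) _ (pow_mem D.jq _),
      hpow _ _ D.iq, hpow _ _ D.jq, hpow _ _ D.iq, hpow _ _ D.jq, D.ip, D.jp] at hp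
    have hne1 : dc a ≠ 0 := fun e => ha0 (dc_inj hla (by norm_num) (e.trans dc_zero.symm))
    have hne2 : dc b ≠ 0 := fun e => hb0 (dc_inj hlb (by norm_num) (e.trans dc_zero.symm))
    have hne3 : dc a ≠ dc b := fun e => hab (dc_inj hla hlb e)
    have two : ∀ v : V, (2 : ℕ) • v = 0 ∧ (3 : ℕ) • v = v := fun v =>
      ⟨by rw [two_nsmul, v_add_self], by rw [succ_nsmul, two_nsmul, v_add_self, zero_add]⟩
    have hne4 : dc a + dc b ≠ 0 := fun e => hne3 (v_eq_of_add e)
    have i2 : i ^ 2 = z := by rw [pow_two, ii h D]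
    have i3 : i ^ 3 = z * i := by rw [pow_succ, i2]
    have iz1 : i ≠ 1 := fun e => hne1 (by rw [← D.ip, e, S.pr_one])
    have hq : q = q' := by
      fin_cases p <;> fin_cases q <;> fin_cases p' <;> fin_cases q' <;>
        simp [two, hne1, hne2, hne3, hne4, hne1.symm, hne2.symm, hne3.symm, hne4.symm] at hp ⊢
    subst hq
    have e3 := mul_right_cancel e2
    have hp : p = p' := by
      fin_cases p <;> fin_cases p' <;>
        simp [two, hne1, hne1.symm, i2, i3, S.zne, S.zne.symm, iz1] at hp e3 ⊢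
    subst hp
    rfl
  simpa using Nat.card_le_card_of_injective f hf

/-- A parametrisation by the tables. -/
theorem exists_param : ∃ f : Nat → My y, (∀ m < 24, ∀ n < 24, f (U43Type.sm m n) = f m * f n) ∧
    (∀ m < 24, ∀ n < 24, f m = f n → m = n) ∧ f U43Type.sZ = pm y z ∧
    (∀ m < 24, ∃ u ∈ sideSub i j x, f m = pm y u) ∧ (∀ u ∈ sideSub i j x, ∃ m < 24, f m = pm y u) ∧
    (∀ m < 24, U43Type.inQ8 m = true → ∃ u ∈ sideSub i j x, u ∈ oc z ∧ f m = pm y u) ∧
    ∀ m < 24, ∀ u ∈ oc z, u ∈ sideSub i j x → f m = pm y u → U43Type.inQ8 m = true := by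
  classical
  let ι : ↥(sideSub i j x) →* G := (sideSub i j x).subtype
  let ii' : ↥(sideSub i j x) := ⟨i, mem_i h D⟩
  let jj' : ↥(sideSub i j x) := ⟨j, mem_j h D⟩
  let xx' : ↥(sideSub i j x) := ⟨x, mem_x h D⟩
  have r0' := rel h D
  have hr : LocalStructure.BTRel ii' jj' xx' := ⟨Subtype.ext r0'.i4, Subtype.ext r0'.j2, Subtype.ext r0'.ji,
    Subtype.ext r0'.x3, Subtype.ext r0'.xi, Subtype.ext r0'.xj⟩
  have hgen : Subgroup.closure {ii', jj', xx'} = ⊤ := by
    refine Subgroup.map_injective (f := (sideSub i j x).subtype) (sideSub i j x).subtype_injective ?_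
    rw [MonoidHom.map_closure, ← MonoidHom.range_eq_map, Subgroup.range_subtype, Set.image_insert_eq,
      Set.image_insert_eq, Set.image_singleton]
    rfl
  obtain ⟨e⟩ := LocalStructure.sl23_iso hr hgen (card_sub h D)
  let g : Nat → G := fun m => ((e.symm (U43Type.slEl m) : ↥(sideSub i j x)) : G)
  have hg : ∀ m, g m ∈ sideSub i j x := fun m => SetLike.coe_mem _
  have hmul : ∀ m < 24, ∀ n < 24, g (U43Type.sm m n) = g m * g n := fun m hm n hn => by
    simp only [g, U43Type.slEl_mul hm hn, map_mul, Subgroup.coe_mul]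
  have hinj : ∀ m < 24, ∀ n < 24, g m = g n → m = n := fun m hm n hn e' =>
    U43Type.slEl_inj hm hn (e.symm.injective (Subtype.ext e'))
  have hsurj : ∀ u ∈ sideSub i j x, ∃ m < 24, g m = u := fun u hu => by
    obtain ⟨m, hm, e'⟩ := U43Type.slEl_surj (e ⟨u, hu⟩)
    exact ⟨m, hm, by simp [g, e']⟩
  have g1 : g U43Type.sO = 1 := by simp [g, U43Type.slEl_one]
  have gz : g U43Type.sZ = z := by
    obtain ⟨m, hm, e'⟩ := hsurj z (mem_z h D)
    have hlt : U43Type.sm m m < 24 := (U43Type.slMat_mul m hm m hm).2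
    have h2 : U43Type.sm m m = U43Type.sO := hinj _ hlt _ (by decide) (by rw [hmul m hm m hm, e', S.zz, g1])
    have inv_only : ∀ a < 24, U43Type.sm a a = U43Type.sO → a = U43Type.sO ∨ a = U43Type.sZ := by decide +kernel
    rcases inv_only m hm h2 with rfl | rfl
    · exact absurd (e'.symm.trans g1) S.zne
    · exact e'
  have pw : ∀ m, m < 24 → g (U43Type.sm (U43Type.sm m m) (U43Type.sm m m)) = g m ^ 4 := fun m hm => by
    have hlt : U43Type.sm m m < 24 := (U43Type.slMat_mul m hm m hm).2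
    rw [hmul _ hlt _ hlt, hmul m hm m hm, show (4 : ℕ) = 2 + 2 from rfl, pow_add, pow_two]
  refine ⟨fun m => pm y (g m), fun m hm n hn => ?_, fun m hm n hn e' => hinj m hm n hn (inj_sub h D (hg m) (hg n) e'),
    (show pm y (g U43Type.sZ) = _ by rw [gz]), fun m _ => ⟨g m, hg m, rfl⟩, fun u hu => ?_, fun m hm hq => ⟨g m, hg m, ?_, rfl⟩,
    fun m hm u hu hus e' => ?_⟩
  · show pm y (g (U43Type.sm m n)) = _
    rw [hmul m hm n hn, pm_mul (sub_le h D (hg m)).1 (sub_le h D (hg n)).1]
  · obtain ⟨m, hm, rfl⟩ := hsurj u hu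
    exact ⟨m, hm, rfl⟩
  · have q4 : ∀ m < 24, U43Type.inQ8 m = true →
        U43Type.sm (U43Type.sm m m) (U43Type.sm m m) = U43Type.sO := by decide +kernel
    have h4 : g m ^ 4 = 1 := by rw [← pw m hm, q4 m hm hq, g1]
    have hz := Subgroup.mem_centralizer_singleton_iff.1 (sub_le h D (hg m)).2
    refine S.act_ker _ hz ?_
    -- the action is a power of the rotation
    obtain ⟨k, hk⟩ : ∃ k : ℕ, S.act (g m) = R ^ k := by
      have key : ∀ v ∈ sideSub i j x, ∃ k : ℕ, S.act v = R ^ k := by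
        intro v hv
        have hz' : ∀ w ∈ sideSub i j x, w * z = z * w := fun w hw =>
          Subgroup.mem_centralizer_singleton_iff.1 (sub_le h D hw).2
        rw [sideSub] at hv
        induction hv using Subgroup.closure_induction with
        | mem u hu =>
          simp only [Set.mem_insert_iff, Set.mem_singleton_iff] at hu
          rcases hu with rfl | rfl | rfl
          · exact ⟨0, by rw [pow_zero, S.act_inner D.iq]⟩
          · exact ⟨0, by rw [pow_zero, S.act_inner D.jq]⟩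
          · exact ⟨1, by rw [pow_one, D.xa]⟩
        | one => exact ⟨0, by rw [pow_zero, S.act_one]⟩
        | mul p q hp hq ihp ihq =>
          obtain ⟨k, ek⟩ := ihp
          obtain ⟨l, el⟩ := ihq
          exact ⟨k + l, by rw [S.act_mul (hz' p hp) (hz' q hq), ek, el, pow_add]⟩
        | inv p hp ihp =>
          obtain ⟨k, ek⟩ := ihp
          refine ⟨2 * k, ?_⟩
          have e3 : R ^ 3 = 1 := by rw [← D.xa, ← act_pow S D.xz, D.x3, S.act_one]
          rw [S.act_inv (hz' p hp), ek, inv_eq_iff_mul_eq_one, ← pow_add, show k + 2 * k = 3 * k by ring,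
            pow_mul, e3, one_pow]
      exact key _ (hg m)
    have e3 : R ^ 3 = 1 := by rw [← D.xa, ← act_pow S D.xz, D.x3, S.act_one]
    have e4 : R ^ (k * 4) = 1 := by rw [pow_mul, ← hk, ← act_pow S hz, h4, S.act_one]
    rwa [show k * 4 = k + 3 * k by ring, pow_add, pow_mul R 3 k, e3, one_pow, mul_one, ← hk] at e4
  · have hlt : U43Type.sm m m < 24 := (U43Type.slMat_mul m hm m hm).2
    have hlt2 : U43Type.sm (U43Type.sm m m) (U43Type.sm m m) < 24 := (U43Type.slMat_mul _ hlt _ hlt).2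
    refine U43Type.q8_of_pow m hm (Or.inl (hinj _ (U43Type.slMat_mul _ hlt2 _ hlt2).2 _ (by decide) ?_))
    rw [hmul _ hlt2 _ hlt2, pw m hm, inj_sub h D (hg m) hus e', pow_four S hu, one_mul, g1]

end Side

end Cfsg.Agent.SuzThree
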