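import Cfsg.Agent.SuzThree.Act
import Cfsg.Agent.SuzType.Frame

/-!
Elements of order three in the centraliser of the involution.
-/

set_option autoImplicit false
set_option linter.all false
set_option maxRecDepth 100000
set_option maxHeartbeats 1000000

open Cfsg Cfsg.Agent.ThreeTrans.OrthCohom Cfsg.Agent.Classical.Quad QuadraticMap Cfsg.Agent.LargeExtra

namespace Cfsg.Agent.SuzThree

open Cfsg.Agent.SuzType

/-- A permutation of order dividing three of a set of size prime to three has a fixed point. -/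
theorem fixed_point {α : Type*} [Finite α] (h : ¬ 3 ∣ Nat.card α) (σ : α → α) (h3 : ∀ a, σ (σ (σ a)) = a) :
    ∃ a, σ a = a := by
  classical
  haveI : Fact (Nat.Prime 3) := ⟨Nat.prime_three⟩
  haveI : Fintype α := Fintype.ofFinite _
  let p : Equiv.Perm α := ⟨σ, fun a => σ (σ a), h3, h3⟩
  obtain ⟨a, ha⟩ := Equiv.Perm.exists_fixed_point_of_prime (p := 3) (n := 1) (σ := p)
    (by rwa [← Nat.card_eq_fintype_card]) (Equiv.ext fun a => by simp [pow_succ, p, h3])
  exact ⟨a, ha⟩

variable {G : Type*} [Group G] [Finite G] {z : G} (S : Suz z)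

/-- The number of fixed vectors. -/
noncomputable def fixN (g : O) : ℕ := Nat.card {x : V // g.1 x = x}

/-- The kind of element of order three considered. -/
structure IsType (y : G) : Prop where
  yz : y * z = z * y
  y3 : y ^ 3 = 1
  ne : y ≠ 1
  fix : 16 ≤ fixN (S.act y)

include S

theorem act_pow {c : G} (hc : c * z = z * c) : ∀ n : ℕ, S.act (c ^ n) = S.act c ^ n
  | 0 => by rw [pow_zero, pow_zero, S.act_one]
  | n + 1 => by rw [pow_succ, pow_succ, S.act_mul (Commute.pow_left hc n).eq hc, act_pow hc n]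

theorem act_conj {c x : G} (hc : c * z = z * c) (hx : x * z = z * x) :
    S.act (c * x * c⁻¹) = S.act c * S.act x * (S.act c)⁻¹ := by
  rw [S.act_mul (Commute.mul_left hc hx).eq (Commute.inv_left hc).eq, S.act_mul hc hx, S.act_inv hc]

theorem conj_cent {c x : G} (hc : c * z = z * c) (hx : x * z = z * x) : c * x * c⁻¹ * z = z * (c * x * c⁻¹) :=
  (Commute.mul_left (Commute.mul_left hc hx) (Commute.inv_left hc)).eq

theorem pow_four {a : G} (ha : a ∈ oc z) : a ^ 4 = 1 := by
  rw [show (4 : ℕ) = 2 * 2 from rfl, pow_mul, pow_two, pow_two, S.pr_sq a ha, S.zp_sq]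

theorem eq_one_of_act {x : G} (xz : x * z = z * x) (x3 : x ^ 3 = 1) (h : S.act x = 1) : x = 1 := by
  have h4 := pow_four S (S.act_ker x xz h)
  rwa [show (4 : ℕ) = 3 + 1 from rfl, pow_succ, x3, one_mul] at h4

theorem pow_twelve {c : G} (hc : c * z = z * c) (h : S.act c ^ 3 = 1) : c ^ 12 = 1 := by
  rw [show (12 : ℕ) = 3 * 4 from rfl, pow_mul]
  exact pow_four S (S.act_ker _ (Commute.pow_left hc 3).eq (by rw [act_pow S hc, h]))

/-- Elements of order three with the same action are conjugate by the extraspecial group. -/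
theorem conj_same {x y : G} (xz : x * z = z * x) (yz : y * z = z * y) (x3 : x ^ 3 = 1) (y3 : y ^ 3 = 1)
    (h : S.act x = S.act y) : ∃ q ∈ oc z, q * x * q⁻¹ = y := by
  by_cases h1 : S.act x = 1
  · rw [eq_one_of_act S xz x3 h1, eq_one_of_act S yz y3 (h ▸ h1)]
    exact ⟨1, one_mem _, by group⟩
  let f : ↥(Subgroup.centralizer ({z} : Set G)) →* O := MonoidHom.mk' (fun c => S.act c) fun a b =>
    S.act_mul (Subgroup.mem_centralizer_singleton_iff.1 a.2) (Subgroup.mem_centralizer_singleton_iff.1 b.2)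
  haveI : Fact (Nat.Prime 3) := ⟨Nat.prime_three⟩
  let X : ↥(Subgroup.centralizer ({z} : Set G)) := ⟨x, Subgroup.mem_centralizer_singleton_iff.2 xz⟩
  let Y : ↥(Subgroup.centralizer ({z} : Set G)) := ⟨y, Subgroup.mem_centralizer_singleton_iff.2 yz⟩
  have ox : orderOf X = 3 := orderOf_eq_prime (Subtype.ext x3)
    (fun e => h1 (by rw [show x = 1 from congrArg Subtype.val e, S.act_one]))
  have oy : orderOf Y = 3 := orderOf_eq_prime (Subtype.ext y3)
    (fun e => h1 (by rw [h, show y = 1 from congrArg Subtype.val e, S.act_one]))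
  let J := (Subgroup.zpowers (f X)).comap f
  have hJ : Nat.card J = 128 * 3 := by
    have hk : Nat.card f.ker = 128 := by
      rw [← show Nat.card ↥(oc z) = 128 from S.card]
      refine Nat.card_congr
        { toFun := fun c => ⟨c.1.1, S.act_ker _ (Subgroup.mem_centralizer_singleton_iff.1 c.1.2) (MonoidHom.mem_ker.1 c.2)⟩
          invFun := fun a => ⟨⟨a.1, Subgroup.mem_centralizer_singleton_iff.2 (S.comm a.2)⟩,
            MonoidHom.mem_ker.2 (S.act_inner a.2)⟩
          left_inv := fun c => rfl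
          right_inv := fun a => rfl }
    have ho : orderOf (f X) = 3 := orderOf_eq_prime (by rw [← map_pow, show X ^ 3 = 1 from Subtype.ext x3, map_one]) h1
    let g : J →* Subgroup.zpowers (f X) := (f.comp J.subtype).codRestrict _ fun c => c.2
    have hs : Function.Surjective g := by
      rintro ⟨u, hu⟩
      obtain ⟨i, rfl⟩ := Subgroup.mem_zpowers_iff.1 hu
      exact ⟨⟨X ^ i, by show f (X ^ i) ∈ Subgroup.zpowers (f X); rw [map_zpow]; exact hu⟩, Subtype.ext (map_zpow f X i)⟩
    have hgk : Nat.card g.ker = 128 := by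
      rw [← hk]
      exact Nat.card_congr
        { toFun := fun c => ⟨c.1.1, MonoidHom.mem_ker.2 (congrArg Subtype.val (MonoidHom.mem_ker.1 c.2))⟩
          invFun := fun c => ⟨⟨c.1, by show f c.1 ∈ Subgroup.zpowers (f X); rw [MonoidHom.mem_ker.1 c.2]; exact one_mem _⟩,
            MonoidHom.mem_ker.2 (Subtype.ext (MonoidHom.mem_ker.1 c.2))⟩
          left_inv := fun c => rfl
          right_inv := fun a => rfl }
    have hc := g.ker.card_mul_index
    rw [Subgroup.index_ker, MonoidHom.range_eq_top.2 hs, Subgroup.card_top, hgk, Nat.card_zpowers, ho] at hc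
    exact hc.symm
  have hfac : (Nat.card J).factorization 3 = 1 := by
    rw [hJ, Nat.factorization_mul (by norm_num) (by norm_num), Finsupp.add_apply,
      Nat.factorization_eq_zero_of_not_dvd (by norm_num), Nat.Prime.factorization_self Nat.prime_three]
  let T₁ : Sylow 3 J := Sylow.ofCard ((Subgroup.zpowers X).subgroupOf J) (by
    rw [hfac, Nat.card_congr (Subgroup.subgroupOfEquivOfLe (Subgroup.zpowers_le.2 (show X ∈ J from Subgroup.mem_zpowers (f X)))).toEquiv,
      Nat.card_zpowers, ox, pow_one])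
  have hYJ : Y ∈ J := by
    show f Y ∈ Subgroup.zpowers (f X)
    rw [show f Y = f X from h.symm]
    exact Subgroup.mem_zpowers _
  let T₂ : Sylow 3 J := Sylow.ofCard ((Subgroup.zpowers Y).subgroupOf J) (by
    rw [hfac, Nat.card_congr (Subgroup.subgroupOfEquivOfLe (Subgroup.zpowers_le.2 hYJ)).toEquiv,
      Nat.card_zpowers, oy, pow_one])
  obtain ⟨j, hj⟩ := MulAction.exists_smul_eq J T₁ T₂
  let XJ : J := ⟨X, Subgroup.mem_zpowers (f X)⟩
  have hm : j * XJ * j⁻¹ ∈ (T₂ : Subgroup J) := by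
    rw [← hj, Sylow.coe_subgroup_smul]
    exact Subgroup.smul_mem_pointwise_smul XJ (MulAut.conj j) _ (Subgroup.mem_zpowers X)
  have hm' : (j : ↥(Subgroup.centralizer ({z} : Set G))) * X * (j : ↥(Subgroup.centralizer ({z} : Set G)))⁻¹ ∈
      Subgroup.zpowers Y := hm
  have hmG : ((j : ↥(Subgroup.centralizer ({z} : Set G))) : G) * x *
      ((j : ↥(Subgroup.centralizer ({z} : Set G))) : G)⁻¹ ∈ Subgroup.zpowers y := by
    obtain ⟨k, hk⟩ := Subgroup.mem_zpowers_iff.1 hm'
    exact Subgroup.mem_zpowers_iff.2 ⟨k, congrArg Subtype.val hk⟩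
  obtain ⟨i, hi⟩ := Subgroup.mem_zpowers_iff.1 (show f (j : ↥(Subgroup.centralizer ({z} : Set G))) ∈ _ from j.2)
  obtain ⟨c, hc⟩ : ∃ c : ↥(Subgroup.centralizer ({z} : Set G)), c = (j : ↥(Subgroup.centralizer ({z} : Set G))) * (X ^ i)⁻¹ :=
    ⟨_, rfl⟩
  have hcz := Subgroup.mem_centralizer_singleton_iff.1 c.2
  have hcf : S.act (c : G) = 1 := by
    show f c = 1
    rw [hc, map_mul, map_inv, map_zpow, hi, mul_inv_cancel]
  have e0 : (c : G) * x * (c : G)⁻¹ = ((j : ↥(Subgroup.centralizer ({z} : Set G))) : G) * x *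
      ((j : ↥(Subgroup.centralizer ({z} : Set G))) : G)⁻¹ := by
    rw [hc, Subgroup.coe_mul, Subgroup.coe_inv, Subgroup.coe_zpow]
    show _ * (x ^ i)⁻¹ * x * (_ * (x ^ i)⁻¹)⁻¹ = _
    group
  refine ⟨(c : G), S.act_ker _ hcz hcf, ?_⟩
  rw [← e0] at hmG
  obtain ⟨k, hk⟩ := Subgroup.mem_zpowers_iff.1 hmG
  have ey : orderOf y = 3 := orderOf_eq_prime y3 (fun e => h1 (by rw [h, e, S.act_one]))
  rw [← hk, ← zpow_mod_orderOf, ey]
  have ha := act_conj S hcz xz
  rw [← hk, ← zpow_mod_orderOf, ey, hcf, one_mul, inv_one, mul_one] at ha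
  have h0 : (0 : ℤ) ≤ k % 3 := Int.emod_nonneg _ (by norm_num)
  have h2 : k % 3 < 3 := Int.emod_lt_of_pos _ (by norm_num)
  rw [show ((3 : ℕ) : ℤ) = 3 from rfl] at ha ⊢
  interval_cases hk3 : k % 3
  · exfalso
    rw [zpow_zero, S.act_one] at ha
    exact h1 ha.symm
  · rw [zpow_one]
  · exfalso
    rw [show ((2 : ℤ)) = ((2 : ℕ) : ℤ) from rfl, zpow_natCast,
      act_pow S yz, h] at ha
    rw [pow_two, mul_eq_left] at ha
    exact h1 (h.trans ha)

/-- Lifting a conjugating element inside a centraliser. -/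
theorem conj_same_in {x x' y : G} (xz : x * z = z * x) (x'z : x' * z = z * x') (x3 : x ^ 3 = 1) (x'3 : x' ^ 3 = 1)
    (h : S.act x = S.act x') (yz : y * z = z * y) (y3 : y ^ 3 = 1) (yx : y * x = x * y) (yx' : y * x' = x' * y) :
    ∃ q ∈ oc z, q * y = y * q ∧ q * x * q⁻¹ = x' := by
  obtain ⟨q, hq, hqe⟩ := conj_same S xz x'z x3 x'3 h
  let D : Subgroup G := oc z ⊓ Subgroup.centralizer ({x} : Set G)
  let T := {a : G // a ∈ oc z ∧ a * x * a⁻¹ = x'}
  have hcard : Nat.card T = Nat.card D := Nat.card_congr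
    { toFun := fun a => ⟨q⁻¹ * a.1, (oc z).mul_mem ((oc z).inv_mem hq) a.2.1, Subgroup.mem_centralizer_singleton_iff.2 (by
        calc q⁻¹ * a.1 * x = q⁻¹ * (a.1 * x * a.1⁻¹) * a.1 := by group
          _ = q⁻¹ * (q * x * q⁻¹) * a.1 := by rw [a.2.2, hqe]
          _ = x * (q⁻¹ * a.1) := by group)⟩
      invFun := fun d => ⟨q * d.1, mul_mem hq d.2.1, by
        have hd := Subgroup.mem_centralizer_singleton_iff.1 d.2.2
        calc q * d.1 * x * (q * d.1)⁻¹ = q * (d.1 * x) * d.1⁻¹ * q⁻¹ := by group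
          _ = q * x * q⁻¹ := by rw [hd]; group
          _ = x' := hqe⟩
      left_inv := fun a => Subtype.ext (mul_inv_cancel_left _ _)
      right_inv := fun d => Subtype.ext (inv_mul_cancel_left _ _) }
  have hnd : ¬ 3 ∣ Nat.card T := by
    intro h3
    rw [hcard] at h3
    have := h3.trans ((Subgroup.card_dvd_of_le inf_le_left).trans (dvd_of_eq S.card))
    norm_num at this
  have hm : ∀ a : T, y * a.1 * y⁻¹ ∈ oc z ∧ y * a.1 * y⁻¹ * x * (y * a.1 * y⁻¹)⁻¹ = x' := fun a => by
    refine ⟨S.nrm yz a.2.1, ?_⟩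
    have e1 : y⁻¹ * x * y = x := by rw [mul_assoc, ← yx, inv_mul_cancel_left]
    calc y * a.1 * y⁻¹ * x * (y * a.1 * y⁻¹)⁻¹ = y * (a.1 * (y⁻¹ * x * y) * a.1⁻¹) * y⁻¹ := by group
      _ = y * x' * y⁻¹ := by rw [e1, a.2.2]
      _ = x' := by rw [yx', mul_inv_cancel_right]
  obtain ⟨a, ha⟩ := fixed_point hnd (fun a => (⟨y * a.1 * y⁻¹, hm a⟩ : T)) (fun a => Subtype.ext (by
    show y * (y * (y * a.1 * y⁻¹) * y⁻¹) * y⁻¹ = a.1
    calc y * (y * (y * a.1 * y⁻¹) * y⁻¹) * y⁻¹ = (y * y * y) * a.1 * (y * y * y)⁻¹ := by group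
      _ = a.1 := by rw [show y * y * y = y ^ 3 by rw [pow_succ, pow_two], y3]; group))
  exact ⟨a.1, a.2.1, (mul_inv_eq_iff_eq_mul.1 (congrArg Subtype.val ha)).symm, a.2.2⟩

theorem comm_iff_fixed {y a : G} (yz : y * z = z * y) (y3 : y ^ 3 = 1) (ha : a ∈ oc z) :
    y * a = a * y ↔ (S.act y).1 (S.pr a) = S.pr a := by
  constructor
  · intro h
    rw [← S.act_spec y yz a ha, h, mul_inv_cancel_right]
  · intro h
    rw [← S.act_spec y yz a ha] at h
    rcases S.pr_eq ha (S.nrm yz ha) h.symm with e | e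
    · exact mul_inv_eq_iff_eq_mul.1 e
    · exfalso
      have h2 : y * (a * z) * y⁻¹ = a := by
        calc y * (a * z) * y⁻¹ = y * a * y⁻¹ * (y * z * y⁻¹) := by group
          _ = a * z * z := by rw [e, yz, mul_inv_cancel_right]
          _ = a := by rw [mul_assoc, S.zz, mul_one]
      have h3 : a = a * z := by
        calc a = y ^ 3 * a * (y ^ 3)⁻¹ := by rw [y3]; group
          _ = y * (y * (y * a * y⁻¹) * y⁻¹) * y⁻¹ := by rw [pow_succ, pow_two]; group
          _ = a * z := by rw [e, h2, e]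
      exact S.zne (mul_eq_left.1 h3.symm)

theorem card_cent_oc {y : G} (yz : y * z = z * y) (y3 : y ^ 3 = 1) :
    Nat.card ↥(oc z ⊓ Subgroup.centralizer ({y} : Set G)) = 2 * fixN (S.act y) := by
  classical
  choose lift hlift hpr using S.pr_surj
  let e : {x : V // (S.act y).1 x = x} × Fin 2 → ↥(oc z ⊓ Subgroup.centralizer ({y} : Set G)) := fun p =>
    ⟨lift p.1.1 * zp z (p.2.val : ZMod 2), mul_mem (hlift _) (S.zp_mem _), Subgroup.mem_centralizer_singleton_iff.2 (by
      refine ((comm_iff_fixed S yz y3 (mul_mem (hlift _) (S.zp_mem _))).2 ?_).symm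
      rw [S.pr_mul _ (hlift _) _ (S.zp_mem _), S.pr_zp, add_zero, hpr]
      exact p.1.2)⟩
  have he : Function.Bijective e := by
    constructor
    · rintro ⟨⟨v, hv⟩, i⟩ ⟨⟨v', hv'⟩, i'⟩ h
      have h' : lift v * zp z (i.val : ZMod 2) = lift v' * zp z (i'.val : ZMod 2) := congrArg Subtype.val h
      have hp := congrArg S.pr h'
      simp only [S.pr_mul _ (hlift _) _ (S.zp_mem _), S.pr_zp, add_zero, hpr] at hp
      subst hp
      have := zp_inj S.zne (mul_left_cancel h')
      have key : ∀ a b : Fin 2, (a.val : ZMod 2) = (b.val : ZMod 2) → a = b := by decide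
      rw [key _ _ this]
    · rintro ⟨a, ha, hc⟩
      have hfix := (comm_iff_fixed S yz y3 ha).1 (Subgroup.mem_centralizer_singleton_iff.1 hc).symm
      rcases S.pr_eq (hlift (S.pr a)) ha (hpr _) with e' | e'
      · exact ⟨(⟨S.pr a, hfix⟩, 0), Subtype.ext (by
          show lift (S.pr a) * zp z ((0 : ℕ) : ZMod 2) = a
          rw [Nat.cast_zero, zp_zero, mul_one]; exact e'.symm)⟩
      · exact ⟨(⟨S.pr a, hfix⟩, 1), Subtype.ext (by
          show lift (S.pr a) * zp z ((1 : ℕ) : ZMod 2) = a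
          rw [Nat.cast_one, zp_one]; exact e'.symm)⟩
  rw [← Nat.card_congr (Equiv.ofBijective e he), Nat.card_prod, Nat.card_fin, mul_comm]
  rfl

/-- All these elements are conjugate. -/
theorem conj_type {x y : G} (hx : IsType S x) (hy : IsType S y) : ∃ c, c * z = z * c ∧ c * x * c⁻¹ = y := by
  obtain ⟨a, da, ea⟩ := normal_form (S.act x) (by rw [← act_pow S hx.yz, hx.y3, S.act_one])
    (fun e => hx.ne (eq_one_of_act S hx.yz hx.y3 e)) hx.fix
  obtain ⟨b, db, eb⟩ := normal_form (S.act y) (by rw [← act_pow S hy.yz, hy.y3, S.act_one])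
    (fun e => hy.ne (eq_one_of_act S hy.yz hy.y3 e)) hy.fix
  obtain ⟨c, hc, hca⟩ := S.act_surj (b⁻¹ * a) (by rw [dsign_mulO, dsign_invO db, da, one_mul])
  obtain ⟨q, hq, hqe⟩ := conj_same S (conj_cent S hc hx.yz) hy.yz (by rw [conj_pow, hx.y3]; group) hy.y3 (by
    rw [act_conj S hc hx.yz, hca]
    calc b⁻¹ * a * S.act x * (b⁻¹ * a)⁻¹ = b⁻¹ * (a * S.act x * a⁻¹) * b := by group
      _ = b⁻¹ * (b * S.act y * b⁻¹) * b := by rw [ea, eb]
      _ = _ := by group)
  exact ⟨q * c, (Commute.mul_left (S.comm hq) hc).eq, by rw [← hqe]; group⟩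

/-- Change of coordinates. -/
theorem rebase {c : O} (hc : dsign c = 1) : ∃ S' : Suz z, ∀ d, S'.act d = c * S.act d * c⁻¹ := by
  refine ⟨{ sett := S.sett, card := S.card, pr := fun a => c.1 (S.pr a),
            pr_mul := fun a ha b hb => by rw [S.pr_mul a ha b hb, map_add]
            pr_ker := fun a ha h => S.pr_ker a ha (c.1.map_eq_zero_iff.1 h)
            pr_z := by rw [S.pr_z, map_zero]
            pr_surj := fun v => by
              obtain ⟨u, rfl⟩ := c.1.surjective v
              obtain ⟨a, ha, rfl⟩ := S.pr_surj u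
              exact ⟨a, ha, rfl⟩
            pr_sq := fun a ha => by rw [c.2]; exact S.pr_sq a ha
            act := fun d => c * S.act d * c⁻¹
            act_spec := fun d hd a ha => by
              rw [S.act_spec d hd a ha, ← oG_mul_apply, ← oG_mul_apply, inv_mul_cancel_right]
            act_even := fun d hd => by rw [dsign_mulO, dsign_mulO, hc, S.act_even d hd, dsign_invO hc]; rfl
            act_surj := fun g hg => by
              obtain ⟨d, hd, e⟩ := S.act_surj (c⁻¹ * g * c) (by rw [dsign_mulO, dsign_mulO, dsign_invO hc, hg, hc]; rfl)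
              exact ⟨d, hd, by rw [e]; group⟩
            act_ker := fun d hd h => S.act_ker d hd (by
              calc S.act d = c⁻¹ * (c * S.act d * c⁻¹) * c := by group
                _ = 1 := by rw [h]; group)
            nwc := S.nwc }, fun d => rfl⟩

theorem exists_standard {y : G} (hy : IsType S y) : ∃ S' : Suz z, S'.act y = R0 := by
  obtain ⟨c, dc', e⟩ := normal_form (S.act y) (by rw [← act_pow S hy.yz, hy.y3, S.act_one])
    (fun e => hy.ne (eq_one_of_act S hy.yz hy.y3 e)) hy.fix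
  obtain ⟨S', hS'⟩ := rebase S dc'
  exact ⟨S', by rw [hS', e]⟩

/-- The standard situation. -/
structure Std3 (y : G) : Prop where
  yz : y * z = z * y
  y3 : y ^ 3 = 1
  act : S.act y = R0

variable {S} {y : G} (h : Std3 S y)
include h

theorem std_type : IsType S y where
  yz := h.yz
  y3 := h.y3
  ne := fun e => by
    have h1 : R0 = 1 := by rw [← h.act, e, S.act_one]
    have h2 : dc (r0 16) = dc 16 := by rw [← (R0_spec.2 16 (by norm_num)).2, h1, oG_one_apply]
    exact absurd (dc_inj (by decide +kernel) (by norm_num) h2) (by decide +kernel)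
  fix := by rw [h.act]; exact fix_card.1

theorem fixN_R0 : fixN R0 = 16 := by
  refine le_antisymm ?_ fix_card.1
  let f : {x : V // R0.1 x = x} → Fin 16 := fun x => ⟨(cd x.1).val, (basics' (cd x.1).isLt).2.2.2.2.2.2.2.2.2.1
    (dc_inj (R0_spec.2 _ (cd x.1).isLt).1 (cd x.1).isLt (by rw [← (R0_spec.2 _ (cd x.1).isLt).2, dc_cd, x.2]))⟩
  have hf : Function.Injective f := fun a b e => Subtype.ext (by
    rw [← dc_cd a.1, ← dc_cd b.1]
    exact congrArg (fun i : Fin 16 => dc i.val) e)
  simpa [fixN] using Nat.card_le_card_of_injective f hf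

theorem comm_small {a : G} (ha : a ∈ oc z) {k : ℕ} (hk : k < 16) (hp : S.pr a = dc k) : y * a = a * y := by
  refine (comm_iff_fixed S h.yz h.y3 ha).2 ?_
  rw [h.act, hp, (R0_spec.2 k (by omega)).2, (basics' (by omega)).2.2.2.2.2.2.2.2.2.2 hk]

theorem exists_cent {g : O} (hg : dsign g = 1) (hc : Commute R0 g) :
    ∃ c, c * z = z * c ∧ c * y = y * c ∧ S.act c = g := by
  obtain ⟨c, cz, rfl⟩ := S.act_surj g hg
  obtain ⟨q, hq, e⟩ := conj_same S (conj_cent S cz h.yz) h.yz (by rw [conj_pow, h.y3]; group) h.y3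
    (by rw [act_conj S cz h.yz, h.act, ← hc.eq, mul_inv_cancel_right])
  refine ⟨q * c, (Commute.mul_left (S.comm hq) cz).eq, ?_, by rw [S.act_mul (S.comm hq) cz, S.act_inner hq, one_mul]⟩
  refine mul_inv_eq_iff_eq_mul.1 ?_
  calc q * c * y * (q * c)⁻¹ = q * (c * y * c⁻¹) * q⁻¹ := by group
    _ = y := e

/-- Lifts of order three of the two further rotations. -/
theorem exists_x : ∃ x₁ x₂, x₁ * z = z * x₁ ∧ x₂ * z = z * x₂ ∧ x₁ * y = y * x₁ ∧ x₂ * y = y * x₂ ∧
    x₁ * x₂ = x₂ * x₁ ∧ x₁ ^ 3 = 1 ∧ x₂ ^ 3 = 1 ∧ S.act x₁ = R1 ∧ S.act x₂ = R2 := by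
  have four : ∀ c g, c * z = z * c → S.act c = g → g ^ 3 = 1 → (c ^ 4) ^ 3 = 1 ∧ S.act (c ^ 4) = g := by
    intro c g cz e g3
    refine ⟨?_, by rw [act_pow S cz, e, pow_succ, g3, one_mul]⟩
    rw [← pow_mul]
    exact pow_twelve S cz (by rw [e, g3])
  obtain ⟨c, cz, cy, ce⟩ := exists_cent h R1_spec.1 R01
  obtain ⟨a3, ae⟩ := four c R1 cz ce R1_three
  have az := (Commute.pow_left cz 4).eq
  have ay := (Commute.pow_left cy 4).eq
  obtain ⟨d, dz, dy, de⟩ := exists_cent h R2_spec.1 R02
  have yd : y * (d * c ^ 4 * d⁻¹) = d * c ^ 4 * d⁻¹ * y :=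
    (Commute.mul_right (Commute.mul_right (show Commute y d from dy.symm) (show Commute y (c ^ 4) from ay.symm))
      (Commute.inv_right (show Commute y d from dy.symm))).eq
  obtain ⟨q, hq, qy, qe⟩ := conj_same_in S (conj_cent S dz az) az (by rw [conj_pow, a3]; group) a3
    (by rw [act_conj S dz az, de, ae, ← R12.eq, mul_inv_cancel_right]) h.yz h.y3 yd ay.symm
  have bz' : q * d * z = z * (q * d) := (Commute.mul_left (S.comm hq) dz).eq
  obtain ⟨b3, be⟩ := four (q * d) R2 bz' (by rw [S.act_mul (S.comm hq) dz, S.act_inner hq, one_mul, de]) R2_three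
  have hx : q * d * c ^ 4 = c ^ 4 * (q * d) := mul_inv_eq_iff_eq_mul.1 (by
    calc q * d * c ^ 4 * (q * d)⁻¹ = q * (d * c ^ 4 * d⁻¹) * q⁻¹ := by group
      _ = _ := qe)
  exact ⟨c ^ 4, (q * d) ^ 4, az, (Commute.pow_left bz' 4).eq, ay,
    (Commute.pow_left (Commute.mul_left qy dy) 4).eq,
    (Commute.pow_right (show Commute (c ^ 4) (q * d) from hx.symm) 4).eq, a3, b3, ae, be⟩

open Cfsg.Agent.SuzType.Suz in
theorem count_at {w : G} (F : S.Fr w) (yw : y * w = w * y) :
    32 ≤ Nat.card ↥(oc w ⊓ Subgroup.centralizer ({y} : Set G)) := by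
  classical
  haveI : Fintype G := Fintype.ofFinite _
  have hperp : ∀ i : Fin 4, Bp (dc ([0, 2, 8, 10].getD i.val 0)) (dc 1) = 0 := by
    intro i
    have : ∀ i : Fin 4, Bn ([0, 2, 8, 10].getD i.val 0) 1 = false ∧ [0, 2, 8, 10].getD i.val 0 < 64 := by decide
    rw [Bp_dc (this i).2 (by norm_num), (this i).1]
    rfl
  choose x hxw hxz hxa using fun i : Fin 4 => exists_sg F (hperp i)
  have hxy : ∀ i, y * x i = x i * y := by
    intro i
    have hlt : [0, 2, 8, 10].getD i.val 0 < 16 := by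
      have : ∀ i : Fin 4, [0, 2, 8, 10].getD i.val 0 < 16 := by decide
      exact this i
    have e1 : R0.1 (dc 1) = dc 1 := (R0_spec.2 1 (by norm_num)).2
    obtain ⟨k, hk, hk', e⟩ := same_act F (hxw i) (hxz i) (nrm_w F yw (hxw i)) (conj_cent S h.yz (hxz i)) fun u => by
      obtain ⟨u, rfl⟩ := R0.1.surjective u
      rw [act_conj S h.yz (hxz i), h.act, oG_mul_apply, oG_mul_apply, hxa i, hxa i]
      conv_rhs => rw [show (R0⁻¹).1 (R0.1 u) = u by rw [← oG_mul_apply, inv_mul_cancel, oG_one_apply], sg_equiv R0 e1,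
        (R0_spec.2 _ (by omega : [0, 2, 8, 10].getD i.val 0 < 64)).2,
        (basics' (by omega : [0, 2, 8, 10].getD i.val 0 < 64)).2.2.2.2.2.2.2.2.2.2 hlt]
    have ky : y * k = k * y := inter_comm F hk hk' h.yz yw
    have k2 := inter_sq F hk hk'
    have h2 : y * (x i * k) * y⁻¹ = x i := by
      calc y * (x i * k) * y⁻¹ = y * x i * y⁻¹ * (y * k * y⁻¹) := by group
        _ = x i * k * k := by rw [e, ky, mul_inv_cancel_right]
        _ = x i := by rw [mul_assoc, k2, mul_one]
    have h3 : x i = x i * k := by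
      calc x i = y ^ 3 * x i * (y ^ 3)⁻¹ := by rw [h.y3]; group
        _ = y * (y * (y * x i * y⁻¹) * y⁻¹) * y⁻¹ := by rw [pow_succ, pow_two]; group
        _ = x i * k := by rw [e, h2, e]
    exact mul_inv_eq_iff_eq_mul.1 (e.trans h3.symm)
  -- an element outside
  obtain ⟨u, hu, hur, hout⟩ : ∃ u, u ∈ oc w ∧ y * u = u * y ∧ u * z ≠ z * u := by
    let T := {a : G // a ∈ oc w ∧ a * z ≠ z * a}
    have hw128 : Nat.card ↥(oc w) = 128 := by
      obtain ⟨g, hg, -, -, -⟩ := transport F
      rw [← show Nat.card ↥(oc z) = 128 from S.card]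
      exact Nat.card_congr
        { toFun := fun x => ⟨g⁻¹ * x.1 * g, by
            have h1 := conj_mem_oc (g := g⁻¹) x.2
            rwa [show g⁻¹ * w * g⁻¹⁻¹ = z by rw [← hg]; group, inv_inv] at h1⟩
          invFun := fun a => ⟨g * a.1 * g⁻¹, hg ▸ conj_mem_oc a.2⟩
          left_inv := fun x => Subtype.ext (by simp [mul_assoc])
          right_inv := fun a => Subtype.ext (by simp [mul_assoc]) }
    have h64 : Nat.card ↥(oc w ⊓ Subgroup.centralizer ({z} : Set G)) = 64 := by
      obtain ⟨g, hg, hm, h0, htr⟩ := transport F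
      rw [← card_comm F hm h0]
      exact Nat.card_congr
        { toFun := fun x => ⟨g⁻¹ * x.1 * g, (by
              have h1 := conj_mem_oc (g := g⁻¹) x.2.1
              rwa [show g⁻¹ * w * g⁻¹⁻¹ = z by rw [← hg]; group, inv_inv] at h1),
            Subgroup.mem_centralizer_singleton_iff.2 (by
              calc g⁻¹ * x.1 * g * (g⁻¹ * z * g) = g⁻¹ * (x.1 * z) * g := by group
                _ = g⁻¹ * z * g * (g⁻¹ * x.1 * g) := by
                  rw [Subgroup.mem_centralizer_singleton_iff.1 x.2.2]; group)⟩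
          invFun := fun a => ⟨g * a.1 * g⁻¹,
            (htr a.1 a.2.1 (Subgroup.mem_centralizer_singleton_iff.1 a.2.2)).1,
            Subgroup.mem_centralizer_singleton_iff.2
              (htr a.1 a.2.1 (Subgroup.mem_centralizer_singleton_iff.1 a.2.2)).2⟩
          left_inv := fun x => Subtype.ext (by simp [mul_assoc])
          right_inv := fun a => Subtype.ext (by simp [mul_assoc]) }
    have hT : Nat.card T = 64 := by
      let A : Finset G := Finset.univ.filter (· ∈ oc w)
      let B : Finset G := Finset.univ.filter (· ∈ oc w ⊓ Subgroup.centralizer ({z} : Set G))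
      have hA : A.card = 128 := by rw [← hw128, Nat.card_eq_fintype_card, Fintype.card_subtype]
      have hB : B.card = 64 := by rw [← h64, Nat.card_eq_fintype_card, Fintype.card_subtype]
      have hBA : B ⊆ A := fun a ha => Finset.mem_filter.2 ⟨Finset.mem_univ _, (Finset.mem_filter.1 ha).2.1⟩
      have hs := Finset.card_sdiff_of_subset hBA
      rw [hA, hB] at hs
      rw [show Nat.card T = (A \ B).card from ?_, hs]
      rw [Nat.card_eq_fintype_card, Fintype.card_subtype]
      congr 1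
      ext a
      simp [A, B, Subgroup.mem_centralizer_singleton_iff]
      tauto
    obtain ⟨⟨a, ha⟩, e⟩ := fixed_point (α := T) (by rw [hT]; norm_num)
      (fun a => ⟨y * a.1 * y⁻¹, nrm_w F yw a.2.1, fun e => a.2.2 (by
        have := conj_cent S (Commute.inv_left h.yz).eq e
        rwa [inv_inv, show y⁻¹ * (y * a.1 * y⁻¹) * y = a.1 by group] at this)⟩)
      (fun a => Subtype.ext (by
        show y * (y * (y * a.1 * y⁻¹) * y⁻¹) * y⁻¹ = a.1
        calc y * (y * (y * a.1 * y⁻¹) * y⁻¹) * y⁻¹ = (y * y * y) * a.1 * (y * y * y)⁻¹ := by group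
          _ = a.1 := by rw [show y * y * y = y ^ 3 by rw [pow_succ, pow_two], h.y3]; group))
    exact ⟨a, ha.1, mul_inv_eq_iff_eq_mul.1 (congrArg Subtype.val e), ha.2⟩
  have hzw := zmem_oc F
  let k : Fin 2 × Fin 2 → G := fun p => w ^ p.1.val * z ^ p.2.val
  let f : Fin 2 × Fin 4 × (Fin 2 × Fin 2) → ↥(oc w ⊓ Subgroup.centralizer ({y} : Set G)) := fun p =>
    ⟨u ^ p.1.val * (x p.2.1 * k p.2.2), mul_mem (pow_mem hu _) (mul_mem (hxw _)
      (mul_mem (pow_mem (mem_oc_self (wset F).ord) _) (pow_mem hzw _))),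
      Subgroup.mem_centralizer_singleton_iff.2 ((Commute.mul_left ((show Commute u y from hur.symm).pow_left _)
        (Commute.mul_left (hxy _).symm (Commute.mul_left ((show Commute w y from yw.symm).pow_left _)
          ((show Commute z y from h.yz.symm).pow_left _)))).eq)⟩
  have hkz : ∀ p, k p * z = z * k p := fun p =>
    (Commute.mul_left ((show Commute w z from wz F).pow_left _) ((Commute.refl z).pow_left _)).eq
  have hkm : ∀ p, k p ∈ oc z := fun p => mul_mem (pow_mem F.mem _) (pow_mem S.zmem _)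
  have hinj : Function.Injective f := by
    rintro ⟨a, i, p⟩ ⟨a', i', p'⟩ e
    have e' : u ^ a.val * (x i * k p) = u ^ a'.val * (x i' * k p') := congrArg Subtype.val e
    have c1 : ∀ j q, (x j * k q) * z = z * (x j * k q) := fun j q => (Commute.mul_left (hxz j) (hkz q)).eq
    have haa : a = a' := by
      have notin : ∀ A B : G, A * z = z * A → B * z = z * B → A ≠ u * B := by
        intro A B hA hB he
        apply hout
        rw [show u = A * B⁻¹ by rw [he, mul_inv_cancel_right]]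
        exact (Commute.mul_left hA (Commute.inv_left hB)).eq
      fin_cases a <;> fin_cases a' <;> simp at e' ⊢
      · exact notin _ _ (c1 i p) (c1 i' p') e'
      · exact notin _ _ (c1 i' p') (c1 i p) e'.symm
    subst haa
    have e2 := mul_left_cancel e'
    have hact := congrArg S.act e2
    rw [S.act_mul (hxz i) (hkz p), S.act_mul (hxz i') (hkz p'), S.act_inner (hkm p), S.act_inner (hkm p'),
      mul_one, mul_one] at hact
    have hii : i = i' := by
      have hall : ∀ v : Fin 64, sgn ([0, 2, 8, 10].getD i.val 0) v.val = sgn ([0, 2, 8, 10].getD i'.val 0) v.val := by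
        intro v
        have l1 : ∀ i : Fin 4, [0, 2, 8, 10].getD i.val 0 < 64 := by decide
        refine dc_inj (sgn_lt (l1 i) v.isLt) (sgn_lt (l1 i') v.isLt) ?_
        rw [← sg_dc (l1 i) v.isLt, ← sg_dc (l1 i') v.isLt, ← hxa i, ← hxa i', hact]
      have tab : ∀ i i' : Fin 4, (∀ v : Fin 64, sgn ([0, 2, 8, 10].getD i.val 0) v.val =
          sgn ([0, 2, 8, 10].getD i'.val 0) v.val) → i = i' := by decide +kernel
      exact tab i i' hall
    subst hii
    have e3 := mul_left_cancel e2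
    have hw1 := wne F
    have hwz := w_ne_z F
    have hwwe := ww F
    have hp : p = p' := by
      obtain ⟨p1, p2⟩ := p
      obtain ⟨p1', p2'⟩ := p'
      have hwzne : w * z ≠ 1 := fun e => hwz (by
        calc w = w * (z * z) := by rw [S.zz, mul_one]
          _ = w * z * z := (mul_assoc _ _ _).symm
          _ = z := by rw [e, one_mul])
      fin_cases p1 <;> fin_cases p2 <;> fin_cases p1' <;> fin_cases p2' <;>
        simp [k, S.zne, S.zne.symm, hw1, hw1.symm, hwz, hwz.symm, hwzne, hwzne.symm] at e3 ⊢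
    rw [hp]
  simpa using Nat.card_le_card_of_injective f hinj

open Cfsg.Agent.SuzType.Suz in
/-- The centraliser of `y` does not fix `z` weakly. -/
theorem exists_move : ∃ w n, S.Fr w ∧ y * w = w * y ∧ n * z * n⁻¹ = w ∧ n * y = y * n := by
  obtain ⟨w, F⟩ := S.exists_fr
  have yw : y * w = w * y := comm_small h F.mem (show 1 < 16 by norm_num) F.pr_eq
  obtain ⟨g, hg⟩ := F.conj
  have hz' : g⁻¹ * y * g * z = z * (g⁻¹ * y * g) := by
    calc g⁻¹ * y * g * z = g⁻¹ * (y * w) * g := by rw [← hg]; group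
      _ = g⁻¹ * (w * y) * g := by rw [yw]
      _ = _ := by rw [← hg]; group
  have y3' : (g⁻¹ * y * g) ^ 3 = 1 := by
    have := conj_pow (a := g⁻¹) (b := y) (i := 3)
    rw [inv_inv] at this
    rw [this, h.y3]; group
  have hc := count_at h F yw
  have hcard : Nat.card ↥(oc z ⊓ Subgroup.centralizer ({g⁻¹ * y * g} : Set G)) =
      Nat.card ↥(oc w ⊓ Subgroup.centralizer ({y} : Set G)) := Nat.card_congr
    { toFun := fun a => ⟨g * a.1 * g⁻¹, hg ▸ conj_mem_oc a.2.1, Subgroup.mem_centralizer_singleton_iff.2 (by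
        calc g * a.1 * g⁻¹ * y = g * (a.1 * (g⁻¹ * y * g)) * g⁻¹ := by group
          _ = y * (g * a.1 * g⁻¹) := by rw [Subgroup.mem_centralizer_singleton_iff.1 a.2.2]; group)⟩
      invFun := fun x => ⟨g⁻¹ * x.1 * g, (by
          have h1 := conj_mem_oc (g := g⁻¹) x.2.1
          rwa [show g⁻¹ * w * g⁻¹⁻¹ = z by rw [← hg]; group, inv_inv] at h1),
        Subgroup.mem_centralizer_singleton_iff.2 (by
          calc g⁻¹ * x.1 * g * (g⁻¹ * y * g) = g⁻¹ * (x.1 * y) * g := by group
            _ = (g⁻¹ * y * g) * (g⁻¹ * x.1 * g) := by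
              rw [Subgroup.mem_centralizer_singleton_iff.1 x.2.2]; group)⟩
      left_inv := fun x => Subtype.ext (by simp [mul_assoc])
      right_inv := fun a => Subtype.ext (by simp [mul_assoc]) }
  have ht : IsType S (g⁻¹ * y * g) := ⟨hz', y3', fun e => (std_type h).ne (by
    calc y = g * (g⁻¹ * y * g) * g⁻¹ := by group
      _ = 1 := by rw [e]; group), by
    have := card_cent_oc S hz' y3'
    omega⟩
  obtain ⟨c, cz, ce⟩ := conj_type S (std_type h) ht
  refine ⟨w, g * c, F, yw, ?_, ?_⟩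
  · calc g * c * z * (g * c)⁻¹ = g * (c * z) * c⁻¹ * g⁻¹ := by group
      _ = w := by rw [cz, ← hg]; group
  · refine mul_inv_eq_iff_eq_mul.1 ?_
    calc g * c * y * (g * c)⁻¹ = g * (c * y * c⁻¹) * g⁻¹ := by group
      _ = y := by rw [ce]; group

end Cfsg.Agent.SuzThree
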