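import Cfsg.Agent.SuzThree.Codes

/-!
Rotations of anisotropic planes in the elliptic space of dimension six.
-/

set_option autoImplicit false
set_option linter.all false
set_option maxRecDepth 100000
set_option maxHeartbeats 1000000

open Cfsg.Agent.ThreeTrans.OrthCohom Cfsg.Agent.Classical.Quad QuadraticMap Module

namespace Cfsg.Agent.SuzThree

open Cfsg.Agent.SuzType

/-- The code map of an isometry. -/
def IsCode (g : O) (f : ℕ → ℕ) : Prop := ∀ v, v < 64 → f v < 64 ∧ g.1 (dc v) = dc (f v)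

theorem IsCode.eq {g h : O} {f : ℕ → ℕ} (hg : IsCode g f) (hh : IsCode h f) : g = h := by
  refine ext_oG fun x => ?_
  rw [← dc_cd x, (hg _ (cd x).isLt).2, (hh _ (cd x).isLt).2]

theorem IsCode.one : IsCode (1 : O) id := fun v hv => ⟨hv, by rw [oG_one_apply]; rfl⟩

theorem IsCode.mul {g h : O} {f e : ℕ → ℕ} (hg : IsCode g f) (hh : IsCode h e) : IsCode (g * h) (f ∘ e) :=
  fun v hv => ⟨(hg _ (hh v hv).1).1, by rw [oG_mul_apply, (hh v hv).2, (hg _ (hh v hv).1).2]; rfl⟩

theorem IsCode.pow {g : O} {f : ℕ → ℕ} (hg : IsCode g f) : ∀ n : ℕ, IsCode (g ^ n) (f^[n])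
  | 0 => by rw [pow_zero]; exact IsCode.one
  | n + 1 => by rw [pow_succ, Function.iterate_succ]; exact (IsCode.pow hg n).mul hg

theorem IsCode.congr {g : O} {f e : ℕ → ℕ} (hg : IsCode g f) (h : ∀ v, v < 64 → f v = e v) : IsCode g e :=
  fun v hv => h v hv ▸ hg v hv

theorem exists_pair_code {a b : ℕ} (ha : a < 64) (hb : b < 64) (hqa : qn a = true) (hqb : qn b = true) :
    ∃ g : O, dsign g = 1 ∧ IsCode g (g2n a b) := by
  obtain ⟨g, h1, h2⟩ := exists_rr ha hb hqa hqb
  exact ⟨g, h1, fun v hv => ⟨g2n_lt ha hb hv, h2 v hv⟩⟩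

theorem dsign_mulO (g h : O) : dsign (g * h) = dsign g * dsign h :=
  dsign_mul nondegM2 (Or.inr (by simp)) g h

theorem dsign_powO {g : O} (hg : dsign g = 1) : ∀ n : ℕ, dsign (g ^ n) = 1
  | 0 => by rw [pow_zero]; exact dsign_one
  | n + 1 => by rw [pow_succ, dsign_mulO, dsign_powO hg n, hg, one_mul]

theorem dsign_invO {g : O} (hg : dsign g = 1) : dsign g⁻¹ = 1 := by
  have h := dsign_mulO g⁻¹ g
  rw [inv_mul_cancel, dsign_one, hg, mul_one] at h
  exact h.symm

theorem gen_exist : (∃ g : O, dsign g = 1 ∧ IsCode g r0) ∧ (∃ g : O, dsign g = 1 ∧ IsCode g r1) ∧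
    (∃ g : O, dsign g = 1 ∧ IsCode g r2) ∧ (∃ g : O, dsign g = 1 ∧ IsCode g mu) ∧
    ∃ g : O, dsign g = 1 ∧ IsCode g sw := by
  have mk : ∀ a b : ℕ, a < 64 ∧ b < 64 ∧ qn a = true ∧ qn b = true → ∃ g : O, dsign g = 1 ∧ IsCode g (g2n a b) :=
    fun a b h => exists_pair_code h.1 h.2.1 h.2.2.1 h.2.2.2
  have tab : ∀ v, v < 64 → g2n 16 32 v = r0 v ∧ g2n 5 11 v = r1 v ∧ g2n 10 7 v = r2 v ∧ g2n 5 10 v = mu v ∧
      g2n 28 31 (g2n 16 19 v) = sw v := by
    intro v hv
    have t := List.all_eq_true.1 gen_tables v (List.mem_range.2 hv)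
    simp only [Bool.and_eq_true, beq_iff_eq] at t
    exact ⟨t.1.1.1.1, t.1.1.1.2, t.1.1.2, t.1.2, t.2⟩
  refine ⟨?_, ?_, ?_, ?_, ?_⟩
  · obtain ⟨g, d, c⟩ := mk 16 32 (by decide)
    exact ⟨g, d, c.congr fun v hv => (tab v hv).1⟩
  · obtain ⟨g, d, c⟩ := mk 5 11 (by decide)
    exact ⟨g, d, c.congr fun v hv => (tab v hv).2.1⟩
  · obtain ⟨g, d, c⟩ := mk 10 7 (by decide)
    exact ⟨g, d, c.congr fun v hv => (tab v hv).2.2.1⟩
  · obtain ⟨g, d, c⟩ := mk 5 10 (by decide)
    exact ⟨g, d, c.congr fun v hv => (tab v hv).2.2.2.1⟩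
  · obtain ⟨g, g1, g2⟩ := mk 28 31 (by decide)
    obtain ⟨h, h1, h2⟩ := mk 16 19 (by decide)
    exact ⟨g * h, by rw [dsign_mulO, g1, h1, one_mul], (g2.mul h2).congr fun v hv => (tab v hv).2.2.2.2⟩

noncomputable def R0 : O := gen_exist.1.choose
noncomputable def R1 : O := gen_exist.2.1.choose
noncomputable def R2 : O := gen_exist.2.2.1.choose
noncomputable def Mu : O := gen_exist.2.2.2.1.choose
noncomputable def Sw : O := gen_exist.2.2.2.2.choose

theorem R0_spec : dsign R0 = 1 ∧ IsCode R0 r0 := gen_exist.1.choose_spec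
theorem R1_spec : dsign R1 = 1 ∧ IsCode R1 r1 := gen_exist.2.1.choose_spec
theorem R2_spec : dsign R2 = 1 ∧ IsCode R2 r2 := gen_exist.2.2.1.choose_spec
theorem Mu_spec : dsign Mu = 1 ∧ IsCode Mu mu := gen_exist.2.2.2.1.choose_spec
theorem Sw_spec : dsign Sw = 1 ∧ IsCode Sw sw := gen_exist.2.2.2.2.choose_spec

theorem basics' {v : ℕ} (hv : v < 64) :
    r0 (r0 (r0 v)) = v ∧ r1 (r1 (r1 v)) = v ∧ r2 (r2 (r2 v)) = v ∧ r0 (r1 v) = r1 (r0 v) ∧
    r0 (r2 v) = r2 (r0 v) ∧ r0 (mu v) = mu (r0 v) ∧ r0 (sw v) = sw (r0 v) ∧ r1 (r2 v) = r2 (r1 v) ∧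
    mu (r1 v) = r1 (r1 (mu v)) ∧ (r0 v = v → v < 16) ∧ (v < 16 → r0 v = v) := by
  have h := List.all_eq_true.1 basics v (List.mem_range.2 hv)
  simp only [Bool.and_eq_true, Bool.or_eq_true, Bool.not_eq_true', beq_iff_eq, beq_eq_false_iff_ne] at h
  obtain ⟨⟨⟨⟨⟨⟨⟨⟨⟨⟨⟨-, a1⟩, a2⟩, a3⟩, a4⟩, a5⟩, a6⟩, a7⟩, a8⟩, a9⟩, a10⟩, a11⟩ := h
  refine ⟨a1, a2, a3, a4, a5, a6, a7, a8, a9, fun e => ?_, fun e => ?_⟩
  · rcases a10 with h | h
    · exact absurd e h
    · exact Nat.ble_eq.mp h
  · rcases a11 with h | h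
    · have e' : Nat.blt v 16 = true := Nat.ble_eq.mpr e
      rw [h] at e'; exact Bool.noConfusion e'
    · exact h

theorem R0_three : R0 ^ 3 = 1 :=
  IsCode.eq ((R0_spec.2.pow 3).congr fun v hv => show r0 (r0 (r0 v)) = v from (basics' hv).1) IsCode.one

theorem R1_three : R1 ^ 3 = 1 :=
  IsCode.eq ((R1_spec.2.pow 3).congr fun v hv => show r1 (r1 (r1 v)) = v from (basics' hv).2.1) IsCode.one

theorem R2_three : R2 ^ 3 = 1 :=
  IsCode.eq ((R2_spec.2.pow 3).congr fun v hv => show r2 (r2 (r2 v)) = v from (basics' hv).2.2.1) IsCode.one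

theorem R01 : Commute R0 R1 :=
  IsCode.eq ((R0_spec.2.mul R1_spec.2).congr fun v hv => (basics' hv).2.2.2.1) (R1_spec.2.mul R0_spec.2)

theorem R02 : Commute R0 R2 :=
  IsCode.eq ((R0_spec.2.mul R2_spec.2).congr fun v hv => (basics' hv).2.2.2.2.1) (R2_spec.2.mul R0_spec.2)

theorem R0Mu : Commute R0 Mu :=
  IsCode.eq ((R0_spec.2.mul Mu_spec.2).congr fun v hv => (basics' hv).2.2.2.2.2.1) (Mu_spec.2.mul R0_spec.2)

theorem R0Sw : Commute R0 Sw :=
  IsCode.eq ((R0_spec.2.mul Sw_spec.2).congr fun v hv => (basics' hv).2.2.2.2.2.2.1) (Sw_spec.2.mul R0_spec.2)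

theorem R12 : Commute R1 R2 :=
  IsCode.eq ((R1_spec.2.mul R2_spec.2).congr fun v hv => (basics' hv).2.2.2.2.2.2.2.1) (R2_spec.2.mul R1_spec.2)

theorem MuR1 : Mu * R1 = R1 ^ 2 * Mu :=
  IsCode.eq ((Mu_spec.2.mul R1_spec.2).congr fun v hv => (basics' hv).2.2.2.2.2.2.2.2.1)
    ((R1_spec.2.pow 2).mul Mu_spec.2)

/-- The isometry of a word. -/
noncomputable def Wel (w : Wd) : O :=
  R0 ^ w.1.val * (R1 ^ w.2.1.val * (R2 ^ w.2.2.1.val * (Mu ^ w.2.2.2.1.val * Sw ^ w.2.2.2.2.val)))

theorem Wel_code (w : Wd) : IsCode (Wel w) (wd w) :=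
  (R0_spec.2.pow _).mul ((R1_spec.2.pow _).mul ((R2_spec.2.pow _).mul ((Mu_spec.2.pow _).mul (Sw_spec.2.pow _))))

theorem Wel_even (w : Wd) : dsign (Wel w) = 1 := by
  simp only [Wel, dsign_mulO, dsign_powO R0_spec.1, dsign_powO R1_spec.1, dsign_powO R2_spec.1,
    dsign_powO Mu_spec.1, dsign_powO Sw_spec.1, one_mul]

theorem Wel_comm (w : Wd) : Commute R0 (Wel w) :=
  ((Commute.refl R0).pow_right _).mul_right ((R01.pow_right _).mul_right ((R02.pow_right _).mul_right
    ((R0Mu.pow_right _).mul_right (R0Sw.pow_right _))))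

/-- The image code. -/
noncomputable def im (g : O) (k : ℕ) : ℕ := (cd (g.1 (dc k))).val

theorem im_lt (g : O) (k : ℕ) : im g k < 64 := (cd _).isLt

theorem im_spec (g : O) (k : ℕ) : g.1 (dc k) = dc (im g k) := (dc_cd _).symm

theorem im_q (g : O) {k : ℕ} (hk : k < 64) : qn (im g k) = qn k :=
  bz_inj _ _ (by rw [← q_dc (im_lt g k), ← im_spec, g.2, q_dc hk])

theorem im_B (g : O) {k l : ℕ} (hk : k < 64) (hl : l < 64) : Bn (im g k) (im g l) = Bn k l :=
  bz_inj _ _ (by rw [← Bp_dc (im_lt g k) (im_lt g l), ← im_spec, ← im_spec, polar_g, Bp_dc hk hl])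

theorem im_inj (g : O) {k l : ℕ} (hk : k < 64) (hl : l < 64) (h : im g k = im g l) : k = l :=
  dc_inj hk hl (g.1.injective (by rw [im_spec, im_spec, h]))

theorem im_xor (g : O) {k l : ℕ} (hk : k < 64) (hl : l < 64) : im g (k ^^^ l) = im g k ^^^ im g l :=
  dc_inj (im_lt _ _) (xor_lt (im_lt _ _) (im_lt _ _))
    (by rw [← im_spec, dc_xor hk hl, map_add, im_spec, im_spec, dc_xor (im_lt _ _) (im_lt _ _)])

theorem im_fix {g : O} {k : ℕ} (hk : k < 64) (h : g.1 (dc k) = dc k) : im g k = k :=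
  dc_inj (im_lt _ _) hk (by rw [← im_spec, h])

theorem eq_one_of_fix (g : O) (h5 : im g 5 = 5) (h11 : im g 11 = 11) (h10 : im g 10 = 10) (h7 : im g 7 = 7)
    (h16 : im g 16 = 16) (h32 : im g 32 = 32) : g = 1 := by
  have h1 : im g 1 = 1 := by
    rw [show (1 : ℕ) = 11 ^^^ 10 from rfl, im_xor g (by norm_num) (by norm_num), h11, h10]
  have h4 : im g 4 = 4 := by
    rw [show (4 : ℕ) = 5 ^^^ 1 from rfl, im_xor g (by norm_num) (by norm_num), h5, h1]
  have h2 : im g 2 = 2 := by
    rw [show (2 : ℕ) = 7 ^^^ 5 from rfl, im_xor g (by norm_num) (by norm_num), h7, h5]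
  have h8 : im g 8 = 8 := by
    rw [show (8 : ℕ) = 10 ^^^ 2 from rfl, im_xor g (by norm_num) (by norm_num), h10, h2]
  refine IsCode.eq (f := id) ?_ IsCode.one
  intro v hv
  refine ⟨hv, ?_⟩
  refine lin_ext g id (fun v hv => hv) rfl split_code ?_ v hv
  intro k hk
  simp only [List.mem_cons, List.not_mem_nil, or_false] at hk
  rcases hk with rfl | rfl | rfl | rfl | rfl | rfl
  · exact (im_spec g 1).trans (by rw [h1]; rfl)
  · exact (im_spec g 2).trans (by rw [h2]; rfl)
  · exact (im_spec g 4).trans (by rw [h4]; rfl)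
  · exact (im_spec g 8).trans (by rw [h8]; rfl)
  · exact (im_spec g 16).trans (by rw [h16]; rfl)
  · exact (im_spec g 32).trans (by rw [h32]; rfl)

theorem plane_range : ((List.range 64).all fun v => [0, 16, 32, 48].contains (r0 v ^^^ v)) = true := by decide +kernel

/-- The centraliser of the rotation. -/
theorem classify {g : O} (hd : dsign g = 1) (hc : Commute R0 g) : ∃ w, g = Wel w := by
  have hr : ∀ k, k < 64 → r0 (im g k) = im g (r0 k) := by
    intro k hk
    refine dc_inj (R0_spec.2 _ (im_lt g k)).1 (im_lt _ _) ?_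
    rw [← (R0_spec.2 _ (im_lt g k)).2, ← im_spec, ← im_spec, ← (R0_spec.2 k hk).2]
    exact congrArg (fun e : O => e.1 (dc k)) hc.eq
  have small : ∀ k, k < 16 → im g k < 16 := fun k hk =>
    (basics' (im_lt g k)).2.2.2.2.2.2.2.2.2.1 (by rw [hr k (by omega), (basics' (by omega)).2.2.2.2.2.2.2.2.2.2 hk])
  have h16 : im g 16 ∈ [16, 32, 48] := by
    have h0 : r0 32 ^^^ 32 = 16 := by decide +kernel
    have e : im g 16 = r0 (im g 32) ^^^ im g 32 := by
      rw [hr 32 (by norm_num), ← im_xor g (by decide +kernel) (by norm_num), h0]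
    have h := List.all_eq_true.1 plane_range _ (List.mem_range.2 (im_lt g 32))
    rw [← e] at h
    simp only [List.contains_iff_mem, List.mem_cons, List.not_mem_nil, or_false] at h
    rcases h with h | h | h | h
    · exact absurd (im_inj g (by norm_num) (by norm_num) (h.trans (im_fix (by norm_num) (by rw [dc_zero, map_zero])).symm))
        (by norm_num)
    all_goals simp [h]
  have hab := im_B g (show 5 < 64 by norm_num) (show 11 < 64 by norm_num)
  have hac := im_B g (show 5 < 64 by norm_num) (show 10 < 64 by norm_num)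
  have qa := im_q g (show 5 < 64 by norm_num)
  have qb := im_q g (show 11 < 64 by norm_num)
  have qc := im_q g (show 10 < 64 by norm_num)
  have f := (by decide +kernel : qn 5 = true ∧ qn 11 = true ∧ qn 10 = true ∧ Bn 5 11 = true ∧ Bn 5 10 = false ∧
    qn 7 = true ∧ Bn 7 5 = false ∧ Bn 7 11 = false ∧ Bn 7 10 = true)
  rw [f.1] at qa
  rw [f.2.1] at qb
  rw [f.2.2.1] at qc
  rw [f.2.2.2.1] at hab
  rw [f.2.2.2.2.1] at hac
  have hca : (im g 10 == im g 5) = false :=
    beq_eq_false_iff_ne.2 fun e => absurd (im_inj g (by norm_num) (by norm_num) e) (by norm_num)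
  have t := List.all_eq_true.1 tup_complete _ (List.mem_range.2 (small 5 (by norm_num)))
  simp only [qa, Bool.not_true, Bool.false_or, List.all_eq_true] at t
  have t := t _ (List.mem_range.2 (small 11 (by norm_num)))
  simp only [qb, hab, Bool.and_true, Bool.not_true, Bool.false_or, List.all_eq_true] at t
  have t := t _ (List.mem_range.2 (small 10 (by norm_num)))
  simp only [qc, hac, hca, Bool.not_false, Bool.and_true, Bool.not_true, Bool.false_or, List.all_eq_true] at t
  obtain ⟨w, -, hw⟩ := List.any_eq_true.1 (t _ h16)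
  simp only [tup, beq_iff_eq, List.cons.injEq, and_true] at hw
  obtain ⟨w5, w11, w10, w16⟩ := hw
  refine ⟨w, ?_⟩
  obtain ⟨d, rfl⟩ : ∃ d, g = Wel w * d := ⟨(Wel w)⁻¹ * g, (mul_inv_cancel_left _ _).symm⟩
  have fixed : ∀ k, k < 64 → wd w k = im (Wel w * d) k → im d k = k := by
    intro k hk e
    refine im_fix hk ((Wel w).1.injective ?_)
    rw [← oG_mul_apply, im_spec, (Wel_code w k hk).2, e]
  have d5 := fixed 5 (by norm_num) w5
  have d11 := fixed 11 (by norm_num) w11
  have d10 := fixed 10 (by norm_num) w10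
  have d16 := fixed 16 (by norm_num) w16
  have hcd : Commute R0 d := by
    have := (Wel_comm w).inv_right.mul_right hc
    rwa [inv_mul_cancel_left] at this
  have hrd : ∀ k, k < 64 → r0 (im d k) = im d (r0 k) := by
    intro k hk
    refine dc_inj (R0_spec.2 _ (im_lt d k)).1 (im_lt _ _) ?_
    rw [← (R0_spec.2 _ (im_lt d k)).2, ← im_spec, ← im_spec, ← (R0_spec.2 k hk).2]
    exact congrArg (fun e : O => e.1 (dc k)) hcd.eq
  have d32 : im d 32 = 32 := by rw [show (32 : ℕ) = r0 16 from rfl, ← hrd 16 (by norm_num), d16]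
  have dd : dsign d = 1 := by rwa [dsign_mulO, Wel_even, one_mul] at hd
  have d7small : im d 7 < 16 :=
    (basics' (im_lt d 7)).2.2.2.2.2.2.2.2.2.1 (by rw [hrd 7 (by norm_num), (basics' (by norm_num)).2.2.2.2.2.2.2.2.2.2 (by norm_num)])
  have s := List.all_eq_true.1 seventh _ (List.mem_range.2 d7small)
  have q7 := im_q d (show 7 < 64 by norm_num)
  have b1 := im_B d (show 7 < 64 by norm_num) (show 5 < 64 by norm_num)
  have b2 := im_B d (show 7 < 64 by norm_num) (show 11 < 64 by norm_num)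
  have b3 := im_B d (show 7 < 64 by norm_num) (show 10 < 64 by norm_num)
  have n7 : (im d 7 == 10) = false :=
    beq_eq_false_iff_ne.2 fun e => absurd (im_inj d (by norm_num) (by norm_num) (e.trans d10.symm)) (by norm_num)
  rw [f.2.2.2.2.2.1] at q7
  rw [d5, f.2.2.2.2.2.2.1] at b1
  rw [d11, f.2.2.2.2.2.2.2.1] at b2
  rw [d10, f.2.2.2.2.2.2.2.2] at b3
  simp only [q7, b1, b2, b3, n7, Bool.not_false, Bool.and_true, Bool.not_true, Bool.false_or, Bool.or_eq_true,
    beq_iff_eq] at s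
  rcases s with s | s
  · rw [eq_one_of_fix d d5 d11 d10 s d16 d32, mul_one]
  · exfalso
    have hne : qM 2 (dc 10) ≠ 0 := by rw [q_dc (by norm_num), show qn 10 = true by decide +kernel]; decide
    have hrf : ∀ v, v < 64 → (rO hne).1 (dc v) = dc (if Bn v 10 then v ^^^ 10 else v) :=
      fun v hv => refl_dc (by norm_num) (by decide +kernel) hv hne
    have key : ∀ k l, k < 64 → l < 64 → (if Bn k 10 then k ^^^ 10 else k) = l → im d l = k → im (d * rO hne) k = k := by
      intro k l hk hl e1 e2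
      refine im_fix hk ?_
      rw [oG_mul_apply, hrf k hk, e1, im_spec, e2]
    have e := eq_one_of_fix (d * rO hne) (key 5 5 (by norm_num) (by norm_num) (by decide +kernel) d5)
      (key 11 11 (by norm_num) (by norm_num) (by decide +kernel) d11)
      (key 10 10 (by norm_num) (by norm_num) (by decide +kernel) d10)
      (key 7 13 (by norm_num) (by norm_num) (by decide +kernel) (by
        rw [show (13 : ℕ) = 7 ^^^ 10 from rfl, im_xor d (by norm_num) (by norm_num), s, d10]; rfl))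
      (key 16 16 (by norm_num) (by norm_num) (by decide +kernel) d16)
      (key 32 32 (by norm_num) (by norm_num) (by decide +kernel) d32)
    have h := congrArg dsign e
    rw [dsign_mul_rO nondegM2, dd, dsign_one] at h
    exact absurd h (by decide)

theorem Wel_inj {w w' : Wd} (h : Wel w = Wel w') : w = w' := by
  refine List.inj_on_of_nodup_map tup_inj.1 (mem_wdList w) (mem_wdList w') ?_
  have e : ∀ v, v < 64 → wd w v = wd w' v := fun v hv => dc_inj (Wel_code w v hv).1 (Wel_code w' v hv).1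
    (by rw [← (Wel_code w v hv).2, ← (Wel_code w' v hv).2, h])
  simp only [tup, e 5 (by norm_num), e 11 (by norm_num), e 10 (by norm_num), e 16 (by norm_num)]

/-- Elements of order three with a large fixed space are rotations of one plane. -/
theorem normal_form (g : O) (h3 : g ^ 3 = 1) (h1 : g ≠ 1) (hfix : 16 ≤ Nat.card {x : V // g.1 x = x}) :
    ∃ c : O, dsign c = 1 ∧ c * g * c⁻¹ = R0 := by
  classical
  have hg3 : ∀ x, g.1 (g.1 (g.1 x)) = x := fun x => by
    rw [← oG_mul_apply, ← oG_mul_apply, show g * g * g = g ^ 3 by rw [pow_succ, pow_two], h3, oG_one_apply]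
  let N : V →+ V := AddMonoidHom.mk' (fun x => g.1 x + x) fun a b => by
    rw [map_add]; abel
  have hker : Nat.card N.ker = Nat.card {x : V // g.1 x = x} := Nat.card_congr (Equiv.subtypeEquivRight fun x => by
    show g.1 x + x = 0 ↔ g.1 x = x
    exact ⟨v_eq_of_add, fun e => by rw [e, v_add_self]⟩)
  have hrange : Nat.card N.range ≤ 4 := by
    have h := N.ker.card_mul_index
    rw [AddSubgroup.index_ker, hker, show Nat.card V = 64 by simp] at h
    nlinarith
  obtain ⟨u, hu⟩ : ∃ u, g.1 u ≠ u := by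
    by_contra hc
    push Not at hc
    exact h1 (ext_oG fun x => (hc x).trans (oG_one_apply x).symm)
  obtain ⟨w, hw⟩ : ∃ w, w = g.1 u + u := ⟨_, rfl⟩
  have w0 : w ≠ 0 := fun e => hu (v_eq_of_add (hw.symm.trans e))
  have wg : g.1 w ≠ w := fun e => by
    have e2 : g.1 (g.1 u) = u := by
      rw [hw, map_add, add_comm (g.1 u) u] at e
      exact add_right_cancel e
    exact hu ((congrArg g.1 e2).symm.trans (hg3 u))
  obtain ⟨w', hw'⟩ : ∃ w', w' = g.1 w := ⟨_, rfl⟩
  have sum : g.1 w' = w + w' := by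
    rw [hw', hw, map_add, map_add, hg3]
    rw [show g.1 u + u + (g.1 (g.1 u) + g.1 u) = (g.1 u + g.1 u) + (u + g.1 (g.1 u)) by abel, v_add_self, zero_add]
  have hmem : ∀ x, g.1 x + x ∈ ({0, w, w', w + w'} : Finset V) := by
    let W : Finset V := {0, w, w', w + w'}
    have hW : W.card = 4 := by
      have a1 : (0 : V) ≠ w := fun e => w0 e.symm
      have a2 : (0 : V) ≠ w' := fun e => w0 (g.1.map_eq_zero_iff.1 (hw'.symm.trans e.symm))
      have a3 : w ≠ w' := fun e => wg (hw'.symm.trans e.symm)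
      have a4 : (0 : V) ≠ w + w' := fun e => a3 (v_eq_of_add e.symm)
      have a5 : w ≠ w + w' := fun e => a2 (left_eq_add.1 e).symm
      have a6 : w' ≠ w + w' := fun e => a1 (right_eq_add.1 e).symm
      simp [W, a1, a2, a3, a4, a5, a6]
    have hsub : W ⊆ (N.range : Set V).toFinset := by
      intro x hx
      have m1 : w ∈ N.range := ⟨u, hw.symm⟩
      have m2 : w' ∈ N.range := ⟨g.1 u, by show g.1 (g.1 u) + g.1 u = w'; rw [hw', hw, map_add]⟩
      simp only [W, Finset.mem_insert, Finset.mem_singleton] at hx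
      rw [Set.mem_toFinset, SetLike.mem_coe]
      rcases hx with rfl | rfl | rfl | rfl
      exacts [zero_mem _, m1, m2, add_mem m1 m2]
    have he := Finset.eq_of_subset_of_card_le hsub (by
      rw [hW, Set.toFinset_card, ← Nat.card_eq_fintype_card]; exact hrange)
    intro x
    show g.1 x + x ∈ W
    rw [he, Set.mem_toFinset, SetLike.mem_coe]
    exact ⟨x, rfl⟩
  have qgw : qM 2 w' = qM 2 w := by rw [hw']; exact g.2 w
  have qs : qM 2 (w + w') = qM 2 w := by rw [← sum, g.2, qgw]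
  have hB : Bp w w' = qM 2 w := by
    show qM 2 (w + w') - qM 2 w - qM 2 w' = qM 2 w
    rw [qs, qgw, sub_self, zero_sub]
    exact (by decide : ∀ a : ZMod 2, -a = a) _
  have qw : qM 2 w = 1 := by
    by_contra hq
    have hq0 : qM 2 w = 0 := ((by decide : ∀ a : ZMod 2, a = 0 ∨ a = 1) _).resolve_right hq
    have hperp : ∀ x, Bp (g.1 x + x) w = 0 := fun x => by
      have hww : Bp w w = 0 := by
        show qM 2 (w + w) - qM 2 w - qM 2 w = 0
        rw [v_add_self, QuadraticMap.map_zero, hq0]; decide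
      have hm := hmem x
      simp only [Finset.mem_insert, Finset.mem_singleton] at hm
      rcases hm with e | e | e | e <;> rw [e]
      · exact polar_zero_left _ _
      · exact hww
      · rw [show Bp w' w = Bp w w' from polar_comm _ _ _, hB, hq0]
      · rw [show Bp (w + w') w = Bp w w + Bp w' w from polar_add_left _ _ _ _, hww,
          show Bp w' w = Bp w w' from polar_comm _ _ _, hB, hq0, add_zero]
    refine wg (v_eq_of_add (eq_zero_of_polar nondegM2 fun y => ?_))
    obtain ⟨x, rfl⟩ := g.1.surjective y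
    have hx := hperp x
    rw [show Bp (g.1 x + x) w = Bp (g.1 x) w + Bp x w from polar_add_left _ _ _ _, ← polar_g g x w,
      ← show Bp (g.1 x) (w + g.1 w) = Bp (g.1 x) w + Bp (g.1 x) (g.1 w) from polar_add_right _ _ _ _] at hx
    show Bp (g.1 w + w) (g.1 x) = 0
    rw [show Bp (g.1 w + w) (g.1 x) = Bp (g.1 x) (g.1 w + w) from polar_comm _ _ _, add_comm]
    exact hx
  -- move the plane
  obtain ⟨i, hi, rfl⟩ : ∃ i, i < 64 ∧ dc i = w := ⟨_, (cd w).isLt, dc_cd w⟩
  obtain ⟨j, hj, rfl⟩ : ∃ j, j < 64 ∧ dc j = w' := ⟨_, (cd w').isLt, dc_cd w'⟩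
  have qi : qn i = true := bz_true (by rw [← q_dc hi, qw])
  have qj : qn j = true := bz_true (by rw [← q_dc hj, qgw, qw])
  have bij : Bn i j = true := bz_true (by rw [← Bp_dc hi hj, hB, qw])
  have t := List.all_eq_true.1 plane_trans.1 i (List.mem_range.2 hi)
  simp only [qi, Bool.not_true, Bool.false_or, List.any_eq_true, Bool.and_eq_true, beq_iff_eq, List.mem_range] at t
  obtain ⟨a, ha, qa, b, hb, qb, hab⟩ := t
  obtain ⟨c1, d1, k1⟩ := exists_pair_code ha hb qa qb
  have e1 : c1.1 (dc i) = dc 16 := by rw [(k1 i hi).2, hab]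
  have qj' : qn (im c1 j) = true := (im_q c1 hj).trans qj
  have b16 : Bn 16 (im c1 j) = true := by
    have := im_B c1 hi hj
    rwa [show im c1 i = 16 from dc_inj (im_lt _ _) (by norm_num) (by rw [← im_spec, e1]), bij] at this
  have t := List.all_eq_true.1 plane_trans.2 _ (List.mem_range.2 (im_lt c1 j))
  simp only [qj', b16, Bool.and_true, Bool.not_true, Bool.false_or, List.any_eq_true, Bool.and_eq_true, beq_iff_eq,
    List.mem_range] at t
  obtain ⟨a', ha', qa', b', hb', ⟨qb', h16'⟩, h32'⟩ := t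
  obtain ⟨c2, d2, k2⟩ := exists_pair_code ha' hb' qa' qb'
  refine ⟨c2 * c1, by rw [dsign_mulO, d1, d2, one_mul], ?_⟩
  obtain ⟨c, hc⟩ : ∃ c, c = c2 * c1 := ⟨_, rfl⟩
  have ci : c.1 (dc i) = dc 16 := by rw [hc, oG_mul_apply, e1, (k2 16 (by norm_num)).2, h16']
  have cj : c.1 (dc j) = dc 32 := by
    rw [hc, oG_mul_apply, im_spec, (k2 _ (im_lt c1 j)).2, h32']
  rw [← hc]
  obtain ⟨g', hg'⟩ : ∃ g', g' = c * g * c⁻¹ := ⟨_, rfl⟩
  have conj : ∀ x, g'.1 (c.1 x) = c.1 (g.1 x) := fun x => by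
    rw [hg', ← oG_mul_apply, inv_mul_cancel_right, oG_mul_apply]
  have g16 : g'.1 (dc 16) = dc 32 := by rw [← ci, conj, ← hw', cj]
  have g32 : g'.1 (dc 32) = dc 48 := by
    rw [← cj, conj, sum, map_add, ci, cj, ← dc_xor (by norm_num) (by norm_num)]; rfl
  have g48 : g'.1 (dc 48) = dc 16 := by
    rw [show (48 : ℕ) = 16 ^^^ 32 from rfl, dc_xor (by norm_num) (by norm_num), map_add, g16, g32,
      ← dc_xor (by norm_num) (by norm_num)]
    rfl
  have gfix : ∀ k, k < 16 → g'.1 (dc k) = dc k := by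
    intro k hk
    obtain ⟨x, hx⟩ := c.1.surjective (dc k)
    have hin : g'.1 (dc k) + dc k = c.1 (g.1 x + x) := by rw [map_add, ← hx, conj]
    have hp : ∀ l l', l < 64 → l' < 64 → g'.1 (dc l') = dc l → Bn k l = false → Bn k l' = false →
        Bp (g'.1 (dc k) + dc k) (dc l) = 0 := by
      intro l l' hl hl' e a1 a2
      have e2 : Bp (g'.1 (dc k)) (dc l) = 0 := by
        rw [← e, polar_g, Bp_dc (by omega) hl', a2]; rfl
      have e3 : Bp (dc k) (dc l) = 0 := by rw [Bp_dc (by omega) hl, a1]; rfl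
      exact (polar_add_left _ _ _ _).trans (by rw [show polar (qM 2) (g'.1 (dc k)) (dc l) = 0 from e2,
        show polar (qM 2) (dc k) (dc l) = 0 from e3, add_zero])
    have f := List.all_eq_true.1 perp_plane k (List.mem_range.2 (by omega))
    rw [show Nat.blt k 16 = true from Nat.ble_eq.mpr hk, beq_iff_eq] at f
    simp only [Bool.and_eq_true, Bool.not_eq_true'] at f
    have f48 : ∀ v : Fin 16, Bn v.val 48 = false := by decide +kernel
    have p16 := hp 16 48 (by norm_num) (by norm_num) g48 f.1 (f48 ⟨k, hk⟩)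
    have p32 := hp 32 16 (by norm_num) (by norm_num) g16 f.2 f.1
    have hm := hmem x
    simp only [Finset.mem_insert, Finset.mem_singleton] at hm
    rcases hm with e | e | e | e
    · rw [e, map_zero] at hin; exact v_eq_of_add hin
    · rw [e, ci] at hin
      rw [hin, Bp_dc (by norm_num) (by norm_num)] at p32
      exact absurd p32 (by decide +kernel)
    · rw [e, cj] at hin
      rw [hin, Bp_dc (by norm_num) (by norm_num)] at p16
      exact absurd p16 (by decide +kernel)
    · rw [e, map_add, ci, cj, ← dc_xor (by norm_num) (by norm_num), show (16 : ℕ) ^^^ 32 = 48 from rfl] at hin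
      rw [hin, Bp_dc (by norm_num) (by norm_num)] at p16
      exact absurd p16 (by decide +kernel)
  rw [← hg']
  refine IsCode.eq ?_ R0_spec.2
  intro v hv
  refine ⟨(R0_spec.2 v hv).1, lin_ext g' r0 (fun v hv => (R0_spec.2 v hv).1) (by decide +kernel)
    (by decide +kernel) ?_ v hv⟩
  intro k hk
  simp only [List.mem_cons, List.not_mem_nil, or_false] at hk
  rcases hk with rfl | rfl | rfl | rfl | rfl | rfl
  · rw [gfix 1 (by norm_num)]; rfl
  · rw [gfix 2 (by norm_num)]; rfl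
  · rw [gfix 4 (by norm_num)]; rfl
  · rw [gfix 8 (by norm_num)]; rfl
  · rw [g16]; rfl
  · rw [g32]; rfl

theorem fix_card : 16 ≤ Nat.card {x : V // R0.1 x = x} ∧ 16 ≤ Nat.card {x : V // R1.1 x = x} := by
  have key : ∀ (g : O) (f : ℕ → ℕ) (L : List ℕ), IsCode g f → L.Nodup → L.length = 16 → (∀ v ∈ L, v < 64 ∧ f v = v) →
      16 ≤ Nat.card {x : V // g.1 x = x} := by
    intro g f L hg hn hl hL
    have hb : ∀ i : Fin 16, L.get (i.cast hl.symm) ∈ L := fun i => List.get_mem _ _
    have := Nat.card_le_card_of_injective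
      (fun i : Fin 16 => (⟨dc (L.get (i.cast hl.symm)), by
        obtain ⟨a, b⟩ := hL _ (hb i)
        rw [(hg _ a).2, b]⟩ : {x : V // g.1 x = x}))
      (fun i j e => by
        have := dc_inj (hL _ (hb i)).1 (hL _ (hb j)).1 (congrArg Subtype.val e)
        exact Fin.cast_injective _ (hn.injective_get this))
    simpa using this
  refine ⟨key R0 r0 (List.range 16) R0_spec.2 List.nodup_range List.length_range fun v hv =>
    ⟨by have := List.mem_range.1 hv; omega, (basics' (by have := List.mem_range.1 hv; omega)).2.2.2.2.2.2.2.2.2.2 (List.mem_range.1 hv)⟩,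
    key R1 r1 ((List.range 64).filter fun v => r1 v == v) R1_spec.2 (List.nodup_range.filter _) (by decide +kernel)
      fun v hv => ⟨List.mem_range.1 (List.mem_filter.1 hv).1, beq_iff_eq.1 (List.mem_filter.1 hv).2⟩⟩

end Cfsg.Agent.SuzThree
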