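import Cfsg.Agent.SuzType.Space

/-!
The centraliser of a rotation of an anisotropic plane, on codes.
-/

set_option autoImplicit false
set_option maxRecDepth 100000
set_option maxHeartbeats 1000000

namespace Cfsg.Agent.SuzThree

open Cfsg.Agent.SuzType

/-- Entry `v` of a packed table with six bits per entry. -/
def getSix (t v : ℕ) : ℕ := Nat.land (Nat.shiftRight t (Nat.mul 6 v)) 63

/-- The standard rotation. -/
def r0 (v : ℕ) : ℕ := getSix 0x7de75c6da6585d65544d2450ffef7cefae78df6d74cf2c70beeb6caeaa689e69648e28603ce34c2ca2481c61440c2040 v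

/-- The rotations of the two planes in the fixed space. -/
def r1 (v : ℕ) : ℕ := getSix 0xc75f79fbacb6df3effe3cd30865b69baa8a69e3aefa2c92045575979a4965d36df61c51004534938a0861c32cf20c100 v

def r2 (v : ℕ) : ℕ := getSix 0xcbeeb6ef7cfff71d79d38f308aeaa6ae78efb61969928b2049e6966d74df75155951871008e2862c70cf341149108300 v

/-- The inversion of both planes. -/
def mu (v : ℕ) : ℕ := getSix 0xffbdf3fbadb2f79d71f38d30beb9e3baa9a2b69961b289207db5d379a5927595517185103cb1c338a182349141308100 v

/-- The exchange of the two planes. -/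
def sw (v : ℕ) : ℕ := getSix 0xffdfbcdf5db4ef9eb8cf1cb0bedbac9e59a4ae9aa88e18a07dd79c5d55946d96984d14903cd38c1c51842c92880c1080 v

theorem gen_tables : ((List.range 64).all fun v =>
    (g2n 16 32 v == r0 v) && (g2n 5 11 v == r1 v) && (g2n 10 7 v == r2 v) && (g2n 5 10 v == mu v) &&
    (g2n 28 31 (g2n 16 19 v) == sw v)) = true := by decide +kernel

/-- A word. -/
abbrev Wd : Type := Fin 3 × Fin 3 × Fin 3 × Fin 2 × Fin 2

/-- The code map of a word. -/
def wd (w : Wd) (v : ℕ) : ℕ :=
  r0^[w.1.val] (r1^[w.2.1.val] (r2^[w.2.2.1.val] (mu^[w.2.2.2.1.val] (sw^[w.2.2.2.2.val] v))))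

/-- All words. -/
def wdList : List Wd :=
  (List.finRange 3).flatMap fun a => (List.finRange 3).flatMap fun b => (List.finRange 3).flatMap fun c =>
    (List.finRange 2).flatMap fun d => (List.finRange 2).map fun e => (a, b, c, d, e)

theorem mem_wdList : ∀ w : Wd, w ∈ wdList := by decide +kernel

theorem basics : ((List.range 64).all fun v =>
    Nat.blt (r0 v) 64 && Nat.blt (r1 v) 64 && Nat.blt (r2 v) 64 && Nat.blt (mu v) 64 && Nat.blt (sw v) 64 &&
    (r0 (r0 (r0 v)) == v) && (r1 (r1 (r1 v)) == v) && (r2 (r2 (r2 v)) == v) &&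
    (r0 (r1 v) == r1 (r0 v)) && (r0 (r2 v) == r2 (r0 v)) && (r0 (mu v) == mu (r0 v)) && (r0 (sw v) == sw (r0 v)) &&
    (r1 (r2 v) == r2 (r1 v)) && (mu (r1 v) == r1 (r1 (mu v))) &&
    (!(r0 v == v) || Nat.blt v 16) && (!(Nat.blt v 16) || (r0 v == v))) = true := by decide +kernel

/-- The values which determine an element. -/
def tup (f : ℕ → ℕ) : List ℕ := [f 5, f 11, f 10, f 16]

theorem tup_complete : ((List.range 16).all fun a => !(qn a) || (List.range 16).all fun b =>
    !(qn b && Bn a b) || (List.range 16).all fun c => !(qn c && !(Bn a c) && !(c == a)) ||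
      [16, 32, 48].all fun d => wdList.any fun w => tup (wd w) == [a, b, c, d]) = true := by decide +kernel

theorem tup_inj : (wdList.map fun w => tup (wd w)).Nodup ∧ wdList.length = 108 := by decide +kernel

theorem fix_basis : ((List.range 64).all fun v => !(r0 v ^^^ v == 16) || Nat.blt v 64) = true ∧
    r0 48 ^^^ 48 = 32 ∧ r0 32 = 48 ∧ r0 16 = 32 := by decide +kernel

theorem seventh : ((List.range 16).all fun v => !(qn v && !(Bn v 5) && !(Bn v 11) && Bn v 10 && !(v == 10)) ||
    (v == 7) || (v == 13)) = true := by decide +kernel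

/-- Vectors determining an isometry. -/
def basisL : List ℕ := [5, 11, 10, 7, 16, 32]

/-- Behaviour of a word with respect to the two planes. -/
def keepsW (w : Wd) : Bool :=
  ([5, 11, 14].contains (wd w 5) && [5, 11, 14].contains (wd w 11) && [10, 7, 13].contains (wd w 10) &&
    [10, 7, 13].contains (wd w 7)) &&
  (basisL.all (fun v => wd w (r1 v) == r1 (wd w v)) || basisL.all (fun v => wd w (r1 v) == r1 (r1 (wd w v)))) &&
  (basisL.all (fun v => wd w (r2 v) == r2 (wd w v)) || basisL.all (fun v => wd w (r2 v) == r2 (r2 (wd w v))))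

def swapsW (w : Wd) : Bool :=
  ([5, 11, 14].contains (wd w 10) && [5, 11, 14].contains (wd w 7) && [10, 7, 13].contains (wd w 5) &&
    [10, 7, 13].contains (wd w 11)) &&
  (basisL.all (fun v => wd w (r1 v) == r2 (wd w v)) || basisL.all (fun v => wd w (r1 v) == r2 (r2 (wd w v)))) &&
  (basisL.all (fun v => wd w (r2 v) == r1 (wd w v)) || basisL.all (fun v => wd w (r2 v) == r1 (r1 (wd w v))))

theorem dich_table : (wdList.all fun w => keepsW w || swapsW w) = true := by decide +kernel

theorem plane_trans : ((List.range 64).all fun v => !(qn v) || (List.range 64).any fun a => qn a &&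
    (List.range 64).any fun b => qn b && (g2n a b v == 16)) = true ∧
  ((List.range 64).all fun v => !(qn v && Bn 16 v) || (List.range 64).any fun a => qn a &&
    (List.range 64).any fun b => qn b && (g2n a b 16 == 16) && (g2n a b v == 32)) = true := by decide +kernel

theorem perp_plane : ((List.range 64).all fun v => (!(Bn v 16) && !(Bn v 32)) == Nat.blt v 16) = true := by decide +kernel

theorem perp_side : ((List.range 16).all fun v =>
    (!(!(Bn v 10) && !(Bn v 7)) || [0, 5, 11, 14].contains v) &&
    (!(!(Bn v 5) && !(Bn v 11)) || [0, 10, 7, 13].contains v)) = true := by decide +kernel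

end Cfsg.Agent.SuzThree
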