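import Cfsg.Agent.SuzThree.Codes

/-!
Further facts on codes.
-/

set_option autoImplicit false
set_option maxRecDepth 100000
set_option maxHeartbeats 1000000

namespace Cfsg.Agent.SuzThree

open Cfsg.Agent.SuzType

theorem perp_pair : ((List.range 16).all fun v =>
    ([5, 11, 14].all fun p => [5, 11, 14].all fun q => (p == q) || Bn v p || Bn v q || [0, 10, 7, 13].contains v) &&
    ([10, 7, 13].all fun p => [10, 7, 13].all fun q => (p == q) || Bn v p || Bn v q || [0, 5, 11, 14].contains v)) = true := by
  decide +kernel

theorem triv_w : (wdList.all fun w => !((wd w 5 == 5) && (wd w 11 == 11) && (wd w 10 == 10)) ||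
    ((w.2.1 == 0) && (w.2.2.1 == 0) && (w.2.2.2.1 == 0) && (w.2.2.2.2 == 0))) = true := by
  decide +kernel

theorem plane_split : ((List.range 16).all fun v => [0, 5, 11, 14].any fun p => [0, 10, 7, 13].any fun q =>
    (p ^^^ q == v)) = true := by
  decide +kernel

theorem perp_all : ((List.range 16).all fun v =>
    !(!(Bn v 5) && !(Bn v 11) && !(Bn v 10) && !(Bn v 7)) || (v == 0)) = true := by
  decide +kernel

end Cfsg.Agent.SuzThree
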