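import Cfsg.Agent.SuzThree.Side
import Cfsg.Agent.SuzThree.Tables
import Cfsg.Agent.U43Type.Setup

/-!
The quotient of the centraliser of `y` is of type `U₄(3)`.
-/

set_option autoImplicit false
set_option linter.all false
set_option maxRecDepth 100000
set_option maxHeartbeats 1000000

open Cfsg Cfsg.Agent.ThreeTrans.OrthCohom Cfsg.Agent.Classical.Quad QuadraticMap Cfsg.Agent.LargeExtra

namespace Cfsg.Agent.SuzThree

open Cfsg.Agent.SuzType

variable {G : Type*} [Group G] [Finite G] {z : G} {S : Suz z} {y : G} (h : Std3 S y)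
include h

theorem two_part_eq {a b : G} (ha : a ∈ Cy y) (hb : b ∈ Cy y) (a4 : a ^ 4 = 1) (b4 : b ^ 4 = 1)
    (e : pm y a = pm y b) : a = b := by
  obtain ⟨k, hk, rfl⟩ := pm_eq ha hb h.y3 e
  have hc : Commute a (y ^ k) := (show Commute a y from mem_Cy.1 ha).pow_right k
  rw [hc.mul_pow, a4, one_mul] at b4
  have h3 : (y ^ k) ^ 3 = 1 := by rw [← pow_mul, mul_comm, pow_mul, h.y3, one_pow]
  rw [pow_succ, h3, one_mul] at b4
  rw [b4, mul_one]

theorem z_four : z ^ 4 = 1 := pow_four S S.zmem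

/-- A lift of an element commuting with the image of `z`. -/
theorem lift_cent {m : My y} (hm : m * pm y z = pm y z * m) :
    ∃ c, c ∈ Cy y ∧ c * z = z * c ∧ pm y c = m := by
  obtain ⟨c, hc, rfl⟩ := pm_surj m
  refine ⟨c, hc, ?_, rfl⟩
  have hz := z_Cy h
  have e : c * z * c⁻¹ = z := by
    refine two_part_eq h (mul_mem (mul_mem hc hz) (inv_mem hc)) hz (by rw [conj_pow, z_four h]; group) (z_four h) ?_
    rw [pm_mul (mul_mem hc hz) (inv_mem hc), pm_mul hc hz, pm_inv hc, hm, mul_inv_cancel_right]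
  exact mul_inv_eq_iff_eq_mul.1 e

theorem small_code {q : G} (hq : q ∈ oc z) (hy : q * y = y * q) : ∃ v < 16, S.pr q = dc v := by
  have e := (comm_iff_fixed S h.yz h.y3 hq).1 hy.symm
  rw [h.act, ← dc_cd (S.pr q), (R0_spec.2 _ (cd _).isLt).2] at e
  exact ⟨(cd (S.pr q)).val,
    (basics' (cd _).isLt).2.2.2.2.2.2.2.2.2.1 (dc_inj (R0_spec.2 _ (cd _).isLt).1 (cd _).isLt e), (dc_cd _).symm⟩

omit h in
/-- The image of the fixed part of the extraspecial group. -/
noncomputable def QM (S : Suz z) (y : G) : Subgroup (My y) :=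
  ((oc z).subgroupOf (Cy y)).map (QuotientGroup.mk' (Yn y))

theorem mem_QM {m : My y} : m ∈ QM S y ↔ ∃ q ∈ oc z, q * y = y * q ∧ pm y q = m := by
  constructor
  · rintro ⟨q, hq, rfl⟩
    exact ⟨q, hq, mem_Cy.1 q.2, pm_def q.2⟩
  · rintro ⟨q, hq, hy, rfl⟩
    exact ⟨⟨q, mem_Cy.2 hy⟩, hq, (pm_def (mem_Cy.2 hy)).symm⟩

namespace Side

variable {R : O} {r : ℕ → ℕ} {a b c d : ℕ} {i j x : G} (D : Side S y R r a b c d i j x)
include D

/-- Elements over the plane are in the factor. -/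
theorem mem_plane {q : G} (hq : q ∈ oc z) {v : ℕ} (hp : S.pr q = dc v) (hv : v ∈ [0, a, b, a ^^^ b]) :
    q ∈ sideSub i j x := by
  have la := D.la
  have lb := D.lb
  have key : ∀ u, u ∈ oc z → u ∈ sideSub i j x → S.pr u = dc v → q ∈ sideSub i j x := by
    intro u hu hus e
    rcases S.pr_eq hu hq (e.trans hp.symm) with e' | e'
    · exact e' ▸ hus
    · exact e' ▸ mul_mem hus (mem_z h D)
  simp only [List.mem_cons, List.not_mem_nil, or_false] at hv
  rcases hv with rfl | rfl | rfl | rfl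
  · exact key 1 (one_mem _) (one_mem _) (by rw [S.pr_one, dc_zero])
  · exact key i D.iq (mem_i h D) D.ip
  · exact key j D.jq (mem_j h D) D.jp
  · exact key (i * j) (mul_mem D.iq D.jq) (mul_mem (mem_i h D) (mem_j h D))
      (by rw [S.pr_mul _ D.iq _ D.jq, D.ip, D.jp, dc_xor (by omega) (by omega)])

/-- Conjugation into another factor. -/
theorem into {R' : O} {r' : ℕ → ℕ} {a' b' c' d' : ℕ} {i' j' x' : G} (D' : Side S y R' r' a' b' c' d' i' j' x')
    {g : G} (gz : g * z = z * g) (gy : g * y = y * g) {f : ℕ → ℕ} (hf : IsCode (S.act g) f)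
    (ha : f a ∈ [0, a', b', a' ^^^ b']) (hb : f b ∈ [0, a', b', a' ^^^ b'])
    (hperp : ∀ v < 16, Bn v (f c) = false → Bn v (f d) = false → v ∈ [0, a', b', a' ^^^ b'])
    {k : ℕ} (hconj : S.act g * R * (S.act g)⁻¹ = R' ^ k) :
    ∀ u ∈ sideSub i j x, g * u * g⁻¹ ∈ sideSub i' j' x' := by
  have la := D.la
  have lb := D.lb
  have gi : g * i * g⁻¹ ∈ sideSub i' j' x' :=
    mem_plane h D' (S.nrm gz D.iq) (by rw [S.act_spec g gz i D.iq, D.ip, (hf a (by omega)).2]) ha
  have gj : g * j * g⁻¹ ∈ sideSub i' j' x' :=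
    mem_plane h D' (S.nrm gz D.jq) (by rw [S.act_spec g gz j D.jq, D.jp, (hf b (by omega)).2]) hb
  have gx : g * x * g⁻¹ ∈ sideSub i' j' x' := by
    have x'kz : x' ^ k * z = z * x' ^ k := (Commute.pow_left D'.xz k).eq
    have gxz := conj_cent S gz D.xz
    have gxy : g * x * g⁻¹ * y = y * (g * x * g⁻¹) :=
      (Commute.mul_left (Commute.mul_left gy D.xy) (Commute.inv_left gy)).eq
    obtain ⟨q, hq⟩ : ∃ q, q = (x' ^ k)⁻¹ * (g * x * g⁻¹) := ⟨_, rfl⟩
    have qz : q * z = z * q := hq ▸ (Commute.mul_left (Commute.inv_left x'kz) gxz).eq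
    have qy : q * y = y * q :=
      hq ▸ (Commute.mul_left (Commute.inv_left (Commute.pow_left D'.xy k)) gxy).eq
    have qact : S.act (g * x * g⁻¹) = S.act (x' ^ k) := by
      rw [act_conj S gz D.xz, D.xa, hconj, act_pow S D'.xz, D'.xa]
    have qoc : q ∈ oc z := S.act_ker q qz (by
      rw [hq, S.act_mul (Commute.inv_left x'kz).eq gxz, S.act_inv x'kz, qact, inv_mul_cancel])
    obtain ⟨v, hv, hvp⟩ := small_code h qoc qy
    have perp : ∀ e, e < 16 → r e = e → Bn v (f e) = false := by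
      intro e he hr
      obtain ⟨l, hl, hlp⟩ := S.pr_surj (dc e)
      have hgl := S.nrm gz hl
      have hxl : x * l = l * x := (comm_iff_fixed S D.xz D.x3 hl).2
        (by rw [D.xa, hlp, (D.code e (by omega)).2, hr])
      have h1 : g * x * g⁻¹ * (g * l * g⁻¹) = g * l * g⁻¹ * (g * x * g⁻¹) := by
        calc g * x * g⁻¹ * (g * l * g⁻¹) = g * (x * l) * g⁻¹ := by group
          _ = _ := by rw [hxl]; group
      have h3 : (g * x * g⁻¹) ^ 3 = 1 := by rw [conj_pow, D.x3]; group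
      have h3' : (x' ^ k) ^ 3 = 1 := by rw [← pow_mul, mul_comm, pow_mul, D'.x3, one_pow]
      have h2 : x' ^ k * (g * l * g⁻¹) = g * l * g⁻¹ * x' ^ k := by
        refine (comm_iff_fixed S x'kz h3' hgl).2 ?_
        rw [← qact]
        exact (comm_iff_fixed S gxz h3 hgl).1 h1
      have hql : q * (g * l * g⁻¹) = g * l * g⁻¹ * q :=
        hq ▸ (Commute.mul_left (Commute.inv_left h2) h1).eq
      have hb' := (S.commute_iff qoc hgl).1 hql
      rw [hvp, S.act_spec g gz l hl, hlp, (hf e (by omega)).2, Bp_dc (by omega) (hf e (by omega)).1] at hb'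
      exact (bz_eq_zero _).1 hb'
    have hqm := mem_plane h D' qoc hvp (hperp v hv (perp c D.lc D.rc) (perp d D.ld D.rd))
    have e : g * x * g⁻¹ = x' ^ k * q := by rw [hq, mul_inv_cancel_left]
    rw [e]
    exact mul_mem (pow_mem (mem_x h D') k) hqm
  intro u hu
  have hle : sideSub i j x ≤ (sideSub i' j' x').comap (MulAut.conj g).toMonoidHom := by
    rw [sideSub, Subgroup.closure_le]
    intro v hv
    simp only [Set.mem_insert_iff, Set.mem_singleton_iff] at hv
    rcases hv with rfl | rfl | rfl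
    exacts [gi, gj, gx]
  exact hle hu

end Side

/-- Both factors. -/
structure Factors (i₁ j₁ x₁ i₂ j₂ x₂ : G) : Prop where
  one : Side S y R1 r1 5 11 10 7 i₁ j₁ x₁
  two : Side S y R2 r2 10 7 5 11 i₂ j₂ x₂
  xx : x₁ * x₂ = x₂ * x₁

theorem exists_factors : ∃ i₁ j₁ x₁ i₂ j₂ x₂ : G, Factors (S := S) (y := y) i₁ j₁ x₁ i₂ j₂ x₂ := by
  obtain ⟨x₁, x₂, z1, z2, y1, y2, xx, t1, t2, a1, a2⟩ := exists_x h
  obtain ⟨i₁, j₁, D1⟩ := exists_side h (R := R1) (r := r1) (a := 5) (b := 11) (c := 10) (d := 7) (by norm_num)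
    (by norm_num) (by norm_num) (by norm_num) R1_spec.2 (by decide +kernel) (by decide +kernel) (by decide +kernel)
    (by decide +kernel) (by decide +kernel) (by decide +kernel) z1 y1 t1 a1
  obtain ⟨i₂, j₂, D2⟩ := exists_side h (R := R2) (r := r2) (a := 10) (b := 7) (c := 5) (d := 11) (by norm_num)
    (by norm_num) (by norm_num) (by norm_num) R2_spec.2 (by decide +kernel) (by decide +kernel) (by decide +kernel)
    (by decide +kernel) (by decide +kernel) (by decide +kernel) z2 y2 t2 a2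
  exact ⟨i₁, j₁, x₁, i₂, j₂, x₂, D1, D2, xx⟩

section
variable {i₁ j₁ x₁ i₂ j₂ x₂ : G} (F : Factors (S := S) (y := y) i₁ j₁ x₁ i₂ j₂ x₂)
include F

theorem factors_comm {u v : G} (hu : u ∈ sideSub i₁ j₁ x₁) (hv : v ∈ sideSub i₂ j₂ x₂) : u * v = v * u := by
  have D1 := F.one
  have D2 := F.two
  have qq : ∀ (p q : G) (m n : ℕ), p ∈ oc z → q ∈ oc z → S.pr p = dc m → S.pr q = dc n → m < 64 → n < 64 →
      Bn m n = false → Commute p q := by
    intro p q m n hp hq ep eq hm hn hB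
    refine (S.commute_iff hp hq).2 ?_
    rw [ep, eq, Bp_dc hm hn, hB]; rfl
  have xq : ∀ (x q : G) (g : O) (f : ℕ → ℕ) (m : ℕ), x * z = z * x → x ^ 3 = 1 → S.act x = g → IsCode g f →
      q ∈ oc z → S.pr q = dc m → m < 64 → f m = m → Commute x q := by
    intro x q g f m xz x3 xa code hq hp hm hf
    exact (comm_iff_fixed S xz x3 hq).2 (by rw [xa, hp, (code m hm).2, hf])
  have hgen : ∀ p ∈ ({i₁, j₁, x₁} : Set G), ∀ q ∈ ({i₂, j₂, x₂} : Set G), Commute p q := by
    intro p hp q hq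
    simp only [Set.mem_insert_iff, Set.mem_singleton_iff] at hp hq
    rcases hp with rfl | rfl | rfl <;> rcases hq with rfl | rfl | rfl
    · exact qq _ _ 5 10 D1.iq D2.iq D1.ip D2.ip (by norm_num) (by norm_num) (by decide +kernel)
    · exact qq _ _ 5 7 D1.iq D2.jq D1.ip D2.jp (by norm_num) (by norm_num) (by decide +kernel)
    · exact (xq _ _ _ _ 5 D2.xz D2.x3 D2.xa D2.code D1.iq D1.ip (by norm_num) D2.rc).symm
    · exact qq _ _ 11 10 D1.jq D2.iq D1.jp D2.ip (by norm_num) (by norm_num) (by decide +kernel)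
    · exact qq _ _ 11 7 D1.jq D2.jq D1.jp D2.jp (by norm_num) (by norm_num) (by decide +kernel)
    · exact (xq _ _ _ _ 11 D2.xz D2.x3 D2.xa D2.code D1.jq D1.jp (by norm_num) D2.rd).symm
    · exact xq _ _ _ _ 10 D1.xz D1.x3 D1.xa D1.code D2.iq D2.ip (by norm_num) D1.rc
    · exact xq _ _ _ _ 7 D1.xz D1.x3 D1.xa D1.code D2.jq D2.jp (by norm_num) D1.rd
    · exact F.xx
  have h1 : sideSub i₁ j₁ x₁ ≤ Subgroup.centralizer (sideSub i₂ j₂ x₂ : Set G) := by
    rw [sideSub, sideSub, Subgroup.centralizer_closure, Subgroup.closure_le]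
    intro p hp
    rw [SetLike.mem_coe, Subgroup.mem_centralizer_iff]
    exact fun q hq => (hgen p hp q hq).symm.eq
  exact (Subgroup.mem_centralizer_iff.1 (h1 hu) v hv).symm

theorem factors_meet {u : G} (h1 : u ∈ sideSub i₁ j₁ x₁) (h2 : u ∈ sideSub i₂ j₂ x₂) : u = 1 ∨ u = z := by
  have D1 := F.one
  have D2 := F.two
  obtain ⟨huy, huz⟩ := Side.sub_le h D1 h1
  have uy := mem_Cy.1 huy
  have uz := Subgroup.mem_centralizer_singleton_iff.1 huz
  obtain ⟨f16, f10, f7⟩ := Side.act_fix h D1 h1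
  obtain ⟨-, f5, f11⟩ := Side.act_fix h D2 h2
  have hc : Commute R0 (S.act u) := by
    show R0 * S.act u = S.act u * R0
    rw [← h.act, ← S.act_mul h.yz uz, ← S.act_mul uz h.yz, uy]
  have f32 : (S.act u).1 (dc 32) = dc 32 := by
    rw [show dc 32 = R0.1 (dc 16) from ((R0_spec.2 16 (by norm_num)).2).symm, ← oG_mul_apply, ← hc.eq, oG_mul_apply, f16]
  have hact : S.act u = 1 := eq_one_of_fix _ (im_fix (by norm_num) f5) (im_fix (by norm_num) f11)
    (im_fix (by norm_num) f10) (im_fix (by norm_num) f7) (im_fix (by norm_num) f16) (im_fix (by norm_num) f32)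
  have hq := S.act_ker u uz hact
  obtain ⟨v, hv, hvp⟩ := small_code h hq uy
  have perp : ∀ (l : G) (e : ℕ), l ∈ oc z → S.pr l = dc e → e < 64 → u * l = l * u → Bn v e = false := by
    intro l e hl hlp he hc
    have := (S.commute_iff hq hl).1 hc
    rw [hvp, hlp, Bp_dc (by omega) he] at this
    exact (bz_eq_zero _).1 this
  have t := List.all_eq_true.1 perp_all v (List.mem_range.2 hv)
  simp only [perp i₁ 5 D1.iq D1.ip (by norm_num) (factors_comm h F (Side.mem_i h D1) h2).symm,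
    perp j₁ 11 D1.jq D1.jp (by norm_num) (factors_comm h F (Side.mem_j h D1) h2).symm,
    perp i₂ 10 D2.iq D2.ip (by norm_num) (factors_comm h F h1 (Side.mem_i h D2)),
    perp j₂ 7 D2.jq D2.jp (by norm_num) (factors_comm h F h1 (Side.mem_j h D2)),
    Bool.not_false, Bool.and_true, Bool.not_true, Bool.false_or, beq_iff_eq] at t
  exact S.pr_ker u hq (by rw [hvp, t, dc_zero])

end

theorem four_set {n a : G} (ha : a ∈ oc z) (hna : n * z * n⁻¹ = a) (hne : a ≠ z) {k : G} (hk : k ∈ oc z)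
    (hk' : k ∈ oc a) : k = 1 ∨ k = z ∨ k = a ∨ k = a * z := by
  have ha1 : a ≠ 1 := fun e => S.zne (conj_eq_one_iff.1 (hna.trans e))
  have h0 : S.pr a ≠ 0 := fun e => by
    rcases S.pr_ker a ha e with e' | e'
    exacts [ha1 e', hne e']
  have hq : qn (cd (S.pr a)).val = false := by
    rw [← bz_eq_zero, ← q_dc (cd (S.pr a)).isLt, dc_cd]
    refine zp_inj S.zne ?_
    rw [← S.pr_sq a ha, zp_zero, ← hna]
    calc n * z * n⁻¹ * (n * z * n⁻¹) = n * (z * z) * n⁻¹ := by group
      _ = 1 := by rw [S.zz]; group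
  obtain ⟨p, hp, q, hq', hpq⟩ := trans_e (cd (S.pr a)) (fun e => h0 (by rw [← dc_cd (S.pr a), e, dc_zero])) hq
  obtain ⟨g, hg, hgact⟩ := exists_rr p.isLt q.isLt hp hq'
  obtain ⟨c, hc, rfl⟩ := S.act_surj g hg
  have F : S.Fr (c * a * c⁻¹) := ⟨S.nrm hc ha, ⟨c * n, by rw [← hna]; group⟩,
    by rw [S.act_spec c hc a ha, ← dc_cd (S.pr a), hgact _ (cd _).isLt, hpq]⟩
  have hki : c * k * c⁻¹ ∈ oc (c * a * c⁻¹) := conj_mem_oc hk'
  have back : ∀ v : G, c * k * c⁻¹ = c * v * c⁻¹ → k = v := fun v e => mul_left_cancel (mul_right_cancel e)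
  rcases Suz.inter F (S.nrm hc hk) hki with e | e | e | e
  · exact Or.inl (back 1 (by rw [e]; group))
  · exact Or.inr (Or.inl (back z (by rw [e, hc]; group)))
  · exact Or.inr (Or.inr (Or.inl (back a e)))
  · exact Or.inr (Or.inr (Or.inr (back (a * z) (by
      rw [e]
      calc c * a * c⁻¹ * z = c * a * c⁻¹ * (c * z * c⁻¹) := by rw [hc, mul_inv_cancel_right]
        _ = _ := by group))))

theorem card_cent_pm : Nat.card ↥(Subgroup.centralizer ({pm y z} : Set (My y))) = 1152 := by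
  classical
  let A : Subgroup G := Cy y ⊓ Subgroup.centralizer ({z} : Set G)
  have hA : ∀ u : A, (u : G) * z = z * u := fun u => Subgroup.mem_centralizer_singleton_iff.1 u.2.2
  have hAy : ∀ u : A, (u : G) * y = y * u := fun u => mem_Cy.1 u.2.1
  let θ : A →* O := MonoidHom.mk' (fun u => S.act u) fun u v => S.act_mul (hA u) (hA v)
  have hrange : Nat.card θ.range = 108 := by
    have hb : ∀ w : Wd, Wel w ∈ θ.range := fun w => by
      obtain ⟨c, cz, cy, ce⟩ := exists_cent h (Wel_even w) (Wel_comm w)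
      exact ⟨⟨c, mem_Cy.2 cy, Subgroup.mem_centralizer_singleton_iff.2 cz⟩, ce⟩
    rw [← Nat.card_congr (Equiv.ofBijective (fun w : Wd => (⟨Wel w, hb w⟩ : θ.range))
      ⟨fun w w' e => Wel_inj (congrArg Subtype.val e), ?_⟩)]
    · simp
    · rintro ⟨_, u, rfl⟩
      have hc : Commute R0 (S.act (u : G)) := by
        show R0 * S.act (u : G) = S.act (u : G) * R0
        rw [← h.act, ← S.act_mul h.yz (hA u), ← S.act_mul (hA u) h.yz, hAy u]
      obtain ⟨w, hw⟩ := classify (S.act_even _ (hA u)) hc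
      exact ⟨w, Subtype.ext hw.symm⟩
  have hker : Nat.card θ.ker = 32 := by
    rw [show (32 : ℕ) = 2 * 16 from rfl, ← fixN_R0 h, ← h.act, ← card_cent_oc S h.yz h.y3]
    exact Nat.card_congr
      { toFun := fun u => ⟨(u.1 : G), S.act_ker _ (hA u.1) (MonoidHom.mem_ker.1 u.2),
          Subgroup.mem_centralizer_singleton_iff.2 (hAy u.1)⟩
        invFun := fun q => ⟨⟨q.1, q.2.2, Subgroup.mem_centralizer_singleton_iff.2 (S.comm q.2.1)⟩,
          MonoidHom.mem_ker.2 (S.act_inner q.2.1)⟩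
        left_inv := fun u => rfl
        right_inv := fun q => rfl }
  have hcA : Nat.card A = 3456 := by
    have := θ.ker.card_mul_index
    rw [Subgroup.index_ker, hker, hrange] at this
    exact this.symm
  let ψ : A →* My y := (QuotientGroup.mk' (Yn y)).comp (Subgroup.inclusion (inf_le_left : A ≤ Cy y))
  have hψ : ∀ u : A, ψ u = pm y u := fun u => (pm_def u.2.1).symm
  have hψr : ψ.range = Subgroup.centralizer ({pm y z} : Set (My y)) := by
    ext m
    rw [Subgroup.mem_centralizer_singleton_iff]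
    constructor
    · rintro ⟨u, rfl⟩
      rw [hψ, ← pm_mul u.2.1 (z_Cy h), ← pm_mul (z_Cy h) u.2.1, hA u]
    · intro hm
      obtain ⟨c, hc, cz, rfl⟩ := lift_cent h hm
      exact ⟨⟨c, hc, Subgroup.mem_centralizer_singleton_iff.2 cz⟩, hψ _⟩
  have hψk : Nat.card ψ.ker = 3 := by
    have hyA : y ∈ A := ⟨mem_Cy.2 rfl, Subgroup.mem_centralizer_singleton_iff.2 h.yz⟩
    have e : ψ.ker = Subgroup.zpowers (⟨y, hyA⟩ : A) := by
      ext u
      rw [MonoidHom.mem_ker]
      show QuotientGroup.mk' (Yn y) (Subgroup.inclusion inf_le_left u) = 1 ↔ _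
      rw [QuotientGroup.mk'_apply, QuotientGroup.eq_one_iff, Subgroup.mem_subgroupOf, Subgroup.mem_zpowers_iff,
        Subgroup.mem_zpowers_iff]
      refine exists_congr fun k => ?_
      show y ^ k = (u : G) ↔ _
      constructor
      · exact fun e => Subtype.ext e
      · exact fun e => congrArg Subtype.val e
    rw [e, Nat.card_zpowers]
    exact orderOf_eq_prime (Subtype.ext h.y3) (fun e => (std_type h).ne (congrArg Subtype.val e))
  have := ψ.ker.card_mul_index
  rw [Subgroup.index_ker, hψk, hcA, hψr] at this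
  omega

open U43Type in
theorem exists_quot_setup : Nonempty (U43Type.Setup (pm y z)) := by
  classical
  obtain ⟨i₁, j₁, x₁, i₂, j₂, x₂, F⟩ := exists_factors h
  have D1 := F.one
  have D2 := F.two
  obtain ⟨f1, m1, n1, z1, to1, on1, q1, q1'⟩ := Side.exists_param h D1
  obtain ⟨f2, m2, n2, z2, to2, on2, q2, q2'⟩ := Side.exists_param h D2
  have le1 : ∀ {u}, u ∈ sideSub i₁ j₁ x₁ → u ∈ Cy y := fun hu => (Side.sub_le h D1 hu).1
  have le2 : ∀ {u}, u ∈ sideSub i₂ j₂ x₂ → u ∈ Cy y := fun hu => (Side.sub_le h D2 hu).1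
  have com : ∀ a < 24, ∀ b < 24, f1 a * f2 b = f2 b * f1 a := by
    intro a ha b hb
    obtain ⟨u, hu, e⟩ := to1 a ha
    obtain ⟨v, hv, e'⟩ := to2 b hb
    rw [e, e', ← pm_mul (le1 hu) (le2 hv), ← pm_mul (le2 hv) (le1 hu), factors_comm h F hu hv]
  have o1 : f1 sO = 1 := by
    have h0 := m1 sO (by decide) sO (by decide)
    rw [show sm sO sO = sO by decide +kernel] at h0
    exact mul_eq_left.1 h0.symm
  have meet : ∀ a < 24, ∀ b < 24, f1 a = f2 b → a = sO ∨ a = sZ := by
    intro a ha b hb e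
    obtain ⟨u, hu, eu⟩ := to1 a ha
    obtain ⟨v, hv, ev⟩ := to2 b hb
    have huv : u = v := pm_inj_act h (le1 hu) (le2 hv)
      (Subgroup.mem_centralizer_singleton_iff.1 (Side.sub_le h D1 hu).2)
      (Subgroup.mem_centralizer_singleton_iff.1 (Side.sub_le h D2 hv).2)
      (by rw [(Side.act_fix h D1 hu).1, (Side.act_fix h D2 hv).1]) (eu.symm.trans (e.trans ev))
    rcases factors_meet h F hu (huv ▸ hv) with e' | e'
    · exact Or.inl (n1 a ha sO (by decide) (by rw [eu, e', pm_one, o1]))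
    · exact Or.inr (n1 a ha sZ (by decide) (by rw [eu, e', z1]))
  let C : Coords (pm y z) := ⟨f1, f2, m1, m2, n1, n2, z1, z2, com, meet⟩
  have memQ : ∀ m, m ∈ QM S y ↔ C.inQ m := by
    intro m
    rw [mem_QM h]
    constructor
    · rintro ⟨q, hq, qy, rfl⟩
      obtain ⟨v, hv, hvp⟩ := small_code h hq qy
      have t := List.all_eq_true.1 plane_split v (List.mem_range.2 hv)
      simp only [List.any_eq_true, beq_iff_eq] at t
      obtain ⟨p, hp, p', hp', rfl⟩ := t
      have lp : p < 64 ∧ p' < 64 := by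
        have : ∀ p ∈ [0, 5, 11, 14] ++ [0, 10, 7, 13], p < 64 := by decide
        exact ⟨this p (List.mem_append.2 (Or.inl hp)), this p' (List.mem_append.2 (Or.inr hp'))⟩
      obtain ⟨u, hu, hup⟩ := S.pr_surj (dc p)
      obtain ⟨u', hu'⟩ : ∃ u', u' = u⁻¹ * q := ⟨_, rfl⟩
      have hu'q : u' ∈ oc z := hu' ▸ mul_mem (inv_mem hu) hq
      have hup' : S.pr u' = dc p' := by
        rw [hu', S.pr_mul _ (inv_mem hu) _ hq, S.pr_inv hu, hup, hvp, dc_xor lp.1 lp.2, ← add_assoc, v_add_self,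
          zero_add]
      have us := Side.mem_plane h D1 hu hup hp
      have us' := Side.mem_plane h D2 hu'q hup' hp'
      obtain ⟨a, ha, ea⟩ := on1 u us
      obtain ⟨b, hb, eb⟩ := on2 u' us'
      refine ⟨a, ha, b, hb, q1' a ha u hu us ea, q2' b hb u' hu'q us' eb, ?_⟩
      show pm y q = f1 a * f2 b
      rw [ea, eb, ← pm_mul (le1 us) (le2 us'), hu', mul_inv_cancel_left]
    · rintro ⟨a, ha, b, hb, qa, qb, rfl⟩
      obtain ⟨u, us, hu, ea⟩ := q1 a ha qa
      obtain ⟨v, vs, hv, eb⟩ := q2 b hb qb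
      exact ⟨u * v, mul_mem hu hv, mem_Cy.1 (mul_mem (le1 us) (le2 vs)),
        (pm_mul (le1 us) (le2 vs)).trans (by rw [← ea, ← eb])⟩
  refine ⟨⟨C, QM S y, memQ, ?_, ?_, ?_, card_cent_pm h, ?_, ?_⟩⟩
  · intro m hm q hq
    obtain ⟨q, hq', qy, rfl⟩ := (mem_QM h).1 hq
    obtain ⟨c, hc, cz, rfl⟩ := lift_cent h hm
    refine (mem_QM h).2 ⟨c * q * c⁻¹, S.nrm cz hq', mem_Cy.1 (mul_mem (mul_mem hc (mem_Cy.2 qy)) (inv_mem hc)), ?_⟩
    rw [pm_mul (mul_mem hc (mem_Cy.2 qy)) (inv_mem hc), pm_mul hc (mem_Cy.2 qy), pm_inv hc]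
  · intro m hm hcen
    obtain ⟨c, hc, cz, rfl⟩ := lift_cent h hm
    have cy := mem_Cy.1 hc
    have hcomm : Commute R0 (S.act c) := by
      show R0 * S.act c = S.act c * R0
      rw [← h.act, ← S.act_mul h.yz cz, ← S.act_mul cz h.yz, cy]
    have fixed : ∀ k, k < 16 → (S.act c).1 (dc k) = dc k := by
      intro k hk
      obtain ⟨q, hq, hqp⟩ := S.pr_surj (dc k)
      have qy := mem_Cy.2 (comm_small h hq hk hqp).symm
      have e : c * q * c⁻¹ = q := by
        refine two_part_eq h (mul_mem (mul_mem hc qy) (inv_mem hc)) qy (pow_four S (S.nrm cz hq)) (pow_four S hq) ?_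
        rw [pm_mul (mul_mem hc qy) (inv_mem hc), pm_mul hc qy, pm_inv hc,
          hcen _ ((mem_QM h).2 ⟨q, hq, mem_Cy.1 qy, rfl⟩), mul_inv_cancel_right]
      rw [← hqp, ← S.act_spec c cz q hq, e]
    obtain ⟨w, hw⟩ := classify (S.act_even c cz) hcomm
    have wfix : ∀ k, k < 16 → wd w k = k := by
      intro k hk
      refine dc_inj (Wel_code w k (by omega)).1 (by omega) ?_
      rw [← (Wel_code w k (by omega)).2, ← hw, fixed k hk]
    have t := List.all_eq_true.1 triv_w w (mem_wdList w)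
    simp only [wfix 5 (by norm_num), wfix 11 (by norm_num), wfix 10 (by norm_num), beq_self_eq_true, Bool.and_true,
      Bool.not_true, Bool.false_or, Bool.and_eq_true, beq_iff_eq] at t
    obtain ⟨⟨⟨t1, t2⟩, t3⟩, t4⟩ := t
    have hact : S.act c = R0 ^ w.1.val := by
      rw [hw, Wel, t1, t2, t3, t4]
      simp
    have yk := pow_mem (y_Cy h) w.1.val
    refine (mem_QM h).2 ⟨c * (y ^ w.1.val)⁻¹, S.act_ker _ (Commute.mul_left cz (Commute.inv_left (Commute.pow_left h.yz _))).eq ?_,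
      mem_Cy.1 (mul_mem hc (inv_mem yk)), ?_⟩
    · rw [S.act_mul cz (Commute.inv_left (Commute.pow_left h.yz _)).eq, S.act_inv (Commute.pow_left h.yz _).eq,
        act_pow S h.yz, h.act, hact, mul_inv_cancel]
    · rw [pm_mul hc (inv_mem yk), pm_inv yk]
      have : pm y (y ^ w.1.val) = 1 := by
        rw [pm_def yk]
        refine (QuotientGroup.eq_one_iff _).2 ?_
        exact Subgroup.mem_subgroupOf.2 (pow_mem (Subgroup.mem_zpowers y) _)
      rw [this, inv_one, mul_one]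
  · intro m hm
    obtain ⟨c, hc, cz, rfl⟩ := lift_cent h hm
    have cy := mem_Cy.1 hc
    have hcomm : Commute R0 (S.act c) := by
      show R0 * S.act c = S.act c * R0
      rw [← h.act, ← S.act_mul h.yz cz, ← S.act_mul cz h.yz, cy]
    obtain ⟨w, hw⟩ := classify (S.act_even c cz) hcomm
    have hf : IsCode (S.act c) (wd w) := hw ▸ Wel_code w
    have hne : ∀ e e', e < 64 → e' < 64 → e ≠ e' → wd w e ≠ wd w e' := by
      intro e e' he he' hee h'
      exact hee (dc_inj he he' ((S.act c).1.injective (by rw [(hf e he).2, (hf e' he').2, h'])))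
    have perp : ∀ p q : ℕ, (∀ v, v < 16 → Bn v p = false → Bn v q = false → p ≠ q →
        (p ∈ [5, 11, 14] → q ∈ [5, 11, 14] → v ∈ [0, 10, 7, 13]) ∧
        (p ∈ [10, 7, 13] → q ∈ [10, 7, 13] → v ∈ [0, 5, 11, 14])) := by
      intro p q v hv hp hq hpq
      have t := List.all_eq_true.1 perp_pair v (List.mem_range.2 hv)
      rw [Bool.and_eq_true] at t
      constructor
      · intro mp mq
        have u := List.all_eq_true.1 (List.all_eq_true.1 t.1 p mp) q mq
        simp only [beq_eq_false_iff_ne.2 hpq, hp, hq, Bool.false_or, List.contains_iff_mem] at u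
        exact u
      · intro mp mq
        have u := List.all_eq_true.1 (List.all_eq_true.1 t.2 p mp) q mq
        simp only [beq_eq_false_iff_ne.2 hpq, hp, hq, Bool.false_or, List.contains_iff_mem] at u
        exact u
    have conjR : ∀ (R R' : O) (r r' : ℕ → ℕ), IsCode R r → IsCode R' r' →
        (basisL.all (fun v => wd w (r v) == r' (wd w v)) ||
          basisL.all (fun v => wd w (r v) == r' (r' (wd w v)))) = true →
        ∃ k : ℕ, S.act c * R * (S.act c)⁻¹ = R' ^ k := by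
      intro R R' r r' hr hr' e
      have key : ∀ k : ℕ, (∀ v ∈ basisL, wd w (r v) = r'^[k] (wd w v)) → S.act c * R * (S.act c)⁻¹ = R' ^ k := by
        intro k hk
        rw [mul_inv_eq_iff_eq_mul, ← inv_mul_eq_one]
        have fx : ∀ v ∈ basisL, v < 64 → im ((S.act c * R)⁻¹ * (R' ^ k * S.act c)) v = v := by
          intro v hv hlt
          refine im_fix hlt ((S.act c * R).1.injective ?_)
          rw [← oG_mul_apply, mul_inv_cancel_left, ((hr'.pow k).mul hf v hlt).2, (hf.mul hr v hlt).2]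
          exact congrArg dc (hk v hv).symm
        refine eq_one_of_fix _ ?_ ?_ ?_ ?_ ?_ ?_ <;> exact fx _ (by simp [basisL]) (by norm_num)
      rcases Bool.or_eq_true_iff.1 e with e1 | e1
      · exact ⟨1, key 1 fun v hv => beq_iff_eq.1 (List.all_eq_true.1 e1 v hv)⟩
      · exact ⟨2, key 2 fun v hv => beq_iff_eq.1 (List.all_eq_true.1 e1 v hv)⟩
    have transfer : ∀ {i j x i' j' x' : G} {f f' : Nat → My y},
        (∀ m < 24, ∃ u ∈ sideSub i j x, f m = pm y u) → (∀ u ∈ sideSub i' j' x', ∃ m < 24, f' m = pm y u) →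
        sideSub i j x ≤ Cy y → (∀ u ∈ sideSub i j x, c * u * c⁻¹ ∈ sideSub i' j' x') →
        ∀ a < 24, ∃ a' < 24, pm y c * f a * (pm y c)⁻¹ = f' a' := by
      intro i j x i' j' x' f f' hto hon hle hin a ha
      obtain ⟨u, hu, e⟩ := hto a ha
      obtain ⟨a', ha', e'⟩ := hon _ (hin u hu)
      exact ⟨a', ha', by rw [e', e, pm_mul (mul_mem hc (hle hu)) (inv_mem hc), pm_mul hc (hle hu), pm_inv hc]⟩
    have mem0 : ∀ {v : ℕ} {l : List ℕ}, v ∈ l → v ∈ 0 :: l := fun h => List.mem_cons_of_mem _ h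
    have t := List.all_eq_true.1 dich_table w (mem_wdList w)
    rw [Bool.or_eq_true] at t
    rcases t with t | t
    · left
      have t' := t
      simp only [keepsW, Bool.and_eq_true, List.contains_iff_mem] at t'
      obtain ⟨⟨⟨⟨⟨p5, p11⟩, p10⟩, p7⟩, c1⟩, c2⟩ := t'
      obtain ⟨k1, hk1⟩ := conjR R1 R1 r1 r1 R1_spec.2 R1_spec.2 c1
      obtain ⟨k2, hk2⟩ := conjR R2 R2 r2 r2 R2_spec.2 R2_spec.2 c2
      refine ⟨transfer to1 on1 (fun u hu => le1 hu) (Side.into h D1 D1 cz cy hf (mem0 p5) (mem0 p11) ?_ hk1),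
        transfer to2 on2 (fun u hu => le2 hu) (Side.into h D2 D2 cz cy hf (mem0 p10) (mem0 p7) ?_ hk2)⟩
      · intro v hv a b
        exact (perp _ _ v hv a b (hne 10 7 (by norm_num) (by norm_num) (by norm_num))).2 p10 p7
      · intro v hv a b
        exact (perp _ _ v hv a b (hne 5 11 (by norm_num) (by norm_num) (by norm_num))).1 p5 p11
    · right
      have t' := t
      simp only [swapsW, Bool.and_eq_true, List.contains_iff_mem] at t'
      obtain ⟨⟨⟨⟨⟨p10, p7⟩, p5⟩, p11⟩, c1⟩, c2⟩ := t'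
      obtain ⟨k1, hk1⟩ := conjR R1 R2 r1 r2 R1_spec.2 R2_spec.2 c1
      obtain ⟨k2, hk2⟩ := conjR R2 R1 r2 r1 R2_spec.2 R1_spec.2 c2
      refine ⟨transfer to1 on2 (fun u hu => le1 hu) (Side.into h D1 D2 cz cy hf (mem0 p5) (mem0 p11) ?_ hk1),
        transfer to2 on1 (fun u hu => le2 hu) (Side.into h D2 D1 cz cy hf (mem0 p10) (mem0 p7) ?_ hk2)⟩
      · intro v hv a b
        exact (perp _ _ v hv a b (hne 10 7 (by norm_num) (by norm_num) (by norm_num))).1 p10 p7
      · intro v hv a b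
        exact (perp _ _ v hv a b (hne 5 11 (by norm_num) (by norm_num) (by norm_num))).2 p5 p11
  · obtain ⟨w, n, Fw, yw, hn, ny⟩ := exists_move h
    have hnC := mem_Cy.2 ny
    refine ⟨pm y n, ?_, ?_⟩
    · rw [← pm_inv hnC, ← pm_mul hnC (z_Cy h), ← pm_mul (mul_mem hnC (z_Cy h)) (inv_mem hnC), hn]
      exact (mem_QM h).2 ⟨w, Fw.mem, yw.symm, rfl⟩
    · intro e
      rw [← pm_inv hnC, ← pm_mul hnC (z_Cy h), ← pm_mul (mul_mem hnC (z_Cy h)) (inv_mem hnC), hn] at e
      exact Suz.w_ne_z Fw (two_part_eq h (mem_Cy.2 yw.symm) (z_Cy h) (pow_four S Fw.mem) (z_four h) e)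
  · intro g hg hne
    obtain ⟨n, hnC, rfl⟩ := pm_surj g
    have hz := z_Cy h
    obtain ⟨q, hq, qy, eq⟩ := (mem_QM h).1 hg
    rw [← pm_inv hnC, ← pm_mul hnC hz, ← pm_mul (mul_mem hnC hz) (inv_mem hnC)] at eq hne
    obtain ⟨a, haq⟩ : ∃ a, a = n * z * n⁻¹ := ⟨_, rfl⟩
    rw [← haq] at eq hne
    have haC : a ∈ Cy y := haq ▸ mul_mem (mul_mem hnC hz) (inv_mem hnC)
    have hqa : q = a := two_part_eq h (mem_Cy.2 qy) haC (pow_four S hq) (by rw [haq, conj_pow, z_four h]; group) eq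
    subst hqa
    have hqz : q ≠ z := fun e => hne (by rw [e])
    have ha4 : q ^ 4 = 1 := pow_four S hq
    have hz_in : z ∈ oc q := by
      have := S.sett.symm (g := n) (by rwa [← haq])
      rwa [← haq] at this
    have ocq : ∀ v, v ∈ oc q ↔ n⁻¹ * v * n ∈ oc z := by
      intro v
      constructor
      · intro hv
        have h1 := conj_mem_oc (g := n⁻¹) hv
        rwa [haq, show n⁻¹ * (n * z * n⁻¹) * n⁻¹⁻¹ = z by group, inv_inv] at h1
      · intro hv
        have h1 := conj_mem_oc (g := n) hv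
        rwa [← haq, show n * (n⁻¹ * v * n) * n⁻¹ = v by group] at h1
    have hqq : q ∈ oc q := (ocq q).2 (by rw [haq, show n⁻¹ * (n * z * n⁻¹) * n = z by group]; exact S.zmem)
    have qz : q * z = z * q := S.comm hq
    have q2 : q * q = 1 := by
      rw [haq]
      calc n * z * n⁻¹ * (n * z * n⁻¹) = n * (z * z) * n⁻¹ := by group
        _ = 1 := by rw [S.zz]; group
    let T : Finset G := {1, z, q, q * z}
    have Tmem : ∀ v ∈ T, v ∈ oc z ∧ v * y = y * v ∧ v ∈ oc q := by
      intro v hv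
      simp only [T, Finset.mem_insert, Finset.mem_singleton] at hv
      rcases hv with rfl | rfl | rfl | rfl
      · exact ⟨one_mem _, by simp, one_mem _⟩
      · exact ⟨S.zmem, h.yz.symm, hz_in⟩
      · exact ⟨hq, qy, hqq⟩
      · exact ⟨mul_mem hq S.zmem, (Commute.mul_left qy h.yz.symm).eq, mul_mem hqq hz_in⟩
    have hT : T.card = 4 := by
      have a1 : (1 : G) ≠ z := S.zne.symm
      have q1 : (1 : G) ≠ q := fun e => by
        apply S.zne
        have : n * z * n⁻¹ = 1 := haq.symm.trans e.symm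
        exact conj_eq_one_iff.1 this
      have a3 : (1 : G) ≠ q * z := fun e => hqz (by
        calc q = q * (z * z) := by rw [S.zz, mul_one]
          _ = q * z * z := (mul_assoc _ _ _).symm
          _ = z := by rw [← e, one_mul])
      have a4 : z ≠ q * z := fun e => q1 (right_eq_mul.1 e).symm
      have a5 : q ≠ q * z := fun e => S.zne (left_eq_mul.1 e)
      simp [T, a1, q1, a3, hqz.symm, a4, a5]
    have hset : (((QM S y) ⊓ (QM S y).map (MulAut.conj (pm y n)).toMonoidHom : Subgroup (My y)) : Set (My y)) =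
        ((T.image (pm y) : Finset (My y)) : Set (My y)) := by
      ext m
      simp only [Subgroup.coe_inf, Set.mem_inter_iff, SetLike.mem_coe, Subgroup.mem_map, MulEquiv.coe_toMonoidHom,
        MulAut.conj_apply, Finset.coe_image, Set.mem_image]
      constructor
      · rintro ⟨hm, m', hm', e⟩
        obtain ⟨u, hu, uy, rfl⟩ := (mem_QM h).1 hm
        obtain ⟨v, hv, vy, rfl⟩ := (mem_QM h).1 hm'
        have vC := mem_Cy.2 vy
        rw [← pm_inv hnC, ← pm_mul hnC vC, ← pm_mul (mul_mem hnC vC) (inv_mem hnC)] at e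
        have huv : n * v * n⁻¹ = u := two_part_eq h (mul_mem (mul_mem hnC vC) (inv_mem hnC)) (mem_Cy.2 uy)
          (by rw [conj_pow, pow_four S hv]; group) (pow_four S hu) e
        have hu' : u ∈ oc q := (ocq u).2 (by rw [← huv, show n⁻¹ * (n * v * n⁻¹) * n = v by group]; exact hv)
        refine ⟨u, ?_, rfl⟩
        rcases four_set h hq haq.symm hqz hu hu' with rfl | rfl | rfl | rfl <;> simp [T]
      · rintro ⟨v, hv, rfl⟩
        obtain ⟨v1, v2, v3⟩ := Tmem v hv
        refine ⟨(mem_QM h).2 ⟨v, v1, v2, rfl⟩, pm y (n⁻¹ * v * n), (mem_QM h).2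
          ⟨_, (ocq v).1 v3, mem_Cy.1 (mul_mem (mul_mem (inv_mem hnC) (mem_Cy.2 v2)) hnC), rfl⟩, ?_⟩
        have vC := mem_Cy.2 v2
        have wC := mul_mem (mul_mem (inv_mem hnC) vC) hnC
        rw [← pm_inv hnC, ← pm_mul hnC wC, ← pm_mul (mul_mem hnC wC) (inv_mem hnC)]
        congr 1
        group
    rw [← SetLike.coe_sort_coe, hset, Nat.card_coe_set_eq, Set.ncard_coe_finset, Finset.card_image_of_injOn, hT]
    intro u hu v hv e
    obtain ⟨u1, u2, -⟩ := Tmem u hu
    obtain ⟨v1, v2, -⟩ := Tmem v hv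
    exact two_part_eq h (mem_Cy.2 u2) (mem_Cy.2 v2) (pow_four S u1) (pow_four S v1) e

end Cfsg.Agent.SuzThree
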